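import Cfsg.Agent.H548.BS.SLRow
import Cfsg.Agent.LieClassical.OrthFinite
import Cfsg.Agent.LieClassical.OrthForms

/-!
# S5733: transfer from `slV`, `Iso`, `E Q` to the matrix groups of the families
-/

set_option autoImplicit false

namespace Cfsg.Agent.H548.BS

open Module Cfsg.Agent.H851.Dg Cfsg.Agent.H847.Bs
open QuadraticMap Cfsg.Agent.LieClassical.OrthCore Cfsg.Agent.LieClassical.OrthTrans
  Cfsg.Agent.LieClassical.OrthFinite Cfsg.Agent.LieClassical.OrthForms

section gen

variable {S T : Type*} [Group S] [Group T]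

/-- quotients -/
theorem rb_surj [Finite S] [Finite T] (π : S →* T) (hπ : Function.Surjective π) {c : ℝ} (h : RB c S) : RB c T := by
  intro K hK
  refine of_comap π hπ K (h _ fun h2 => hK ?_)
  rw [eq_top_iff]
  intro t _
  obtain ⟨s, rfl⟩ := hπ t
  have : s ∈ K.comap π := by rw [h2]; trivial
  exact this

theorem rb_congr (e : T ≃* S) {c : ℝ} (h : RB c S) : RB c T := by
  intro K hK
  have h1 : K.map e.toMonoidHom ≠ ⊤ := by
    intro h1
    apply hK
    have h2 := congrArg (Subgroup.comap e.toMonoidHom) h1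
    rwa [Subgroup.comap_map_eq_self_of_injective e.injective, Subgroup.comap_top] at h2
  have h2 := h _ h1
  have h3 := nd_comap_equiv e (K.map e.toMonoidHom)
  rw [Subgroup.comap_map_eq_self_of_injective e.injective] at h3
  rw [h3, Nat.card_congr e.toEquiv]
  exact h2

theorem rb_of_range {X : Type*} [Group X] (f : S →* X) (hf : Function.Injective f) {G : Subgroup X} (hr : f.range = G)
    {c : ℝ} (h : RB c G) : RB c S :=
  rb_congr ((MonoidHom.ofInjective hf).trans (MulEquiv.subgroupCongr hr)) h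

theorem rb_mono {c c' : ℝ} (hc : c ≤ c') (h : RB c' T) : RB c T := fun K hK =>
  (mul_le_mul_of_nonneg_right hc (Nat.cast_nonneg _)).trans (h K hK)

/-- small groups -/
theorem rb_small [Finite T] {N : ℕ} (hN : Nat.card T ≤ N) (h0 : 0 < N) : RB (1 / (N : ℝ)) T := by
  intro K hK
  have h1 : (1 : ℝ) ≤ nd K := by exact_mod_cast one_le_nd hK
  refine le_trans ?_ h1
  have h2 : (0 : ℝ) < N := by exact_mod_cast h0
  rw [one_div_mul_eq_div, div_le_one h2]
  exact_mod_cast hN

theorem rb_of_rowB [Finite T] {c : ℝ} (h : RowB c T) : RB c T := by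
  intro K hK
  obtain hK' | ⟨M, hM, hKM⟩ := eq_top_or_exists_le_coatom K
  · exact absurd hK' hK
  · refine (h M hM).trans ?_
    exact_mod_cast nd_anti hKM

theorem rowB_of_rb {c : ℝ} (h : RB c T) : RowB c T := fun K hK => h K hK.1

end gen

section lin

variable {F V : Type*} [Field F] [AddCommGroup V] [Module F V]

theorem ndV_eq (G : Subgroup (V ≃ₗ[F] V)) (K : Subgroup G) : ndV G (K.map G.subtype) = nd K := by
  unfold ndV nd
  refine Nat.card_congr
    { toFun := fun x => ⟨⟨x.1, x.2.1⟩, fun g hg => x.2.2 g.1 g.2 ⟨_, hg, rfl⟩⟩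
      invFun := fun x => ⟨x.1.1, x.1.2, ?_⟩
      left_inv := fun x => rfl
      right_inv := fun x => rfl }
  rintro g hg ⟨y, hy, hyx⟩
  refine x.2 ⟨g, hg⟩ ?_
  have : (⟨g, hg⟩ * x.1 * ⟨g, hg⟩⁻¹ : G) = y := Subtype.ext hyx.symm
  rw [this]
  exact hy

/-- from the form of the rows -/
theorem rb_of_ndV {G : Subgroup (V ≃ₗ[F] V)} {c : ℝ}
    (h : ∀ H ≤ G, H ≠ G → c * (Nat.card G : ℝ) ≤ ndV G H) : RB c G := by
  intro K hK
  rw [← ndV_eq]
  refine h _ (Subgroup.map_subtype_le K) fun h2 => hK ?_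
  rw [eq_top_iff]
  intro x _
  have h3 : (x : V ≃ₗ[F] V) ∈ K.map G.subtype := by rw [h2]; exact x.2
  obtain ⟨y, hy, hyx⟩ := h3
  have : y = x := Subtype.ext hyx
  exact this ▸ hy

end lin

section families

variable {F : Type} [Field F]

instance finite_equiv {V : Type*} [AddCommGroup V] [Module F V] [Finite V] : Finite (V ≃ₗ[F] V) :=
  Finite.of_injective (fun g : V ≃ₗ[F] V => (g : V → V)) DFunLike.coe_injective

/-- `SL_n` as `slV` -/
theorem range_toLin' (n : ℕ) :
    (Matrix.SpecialLinearGroup.toLin' : Matrix.SpecialLinearGroup (Fin n) F →* _).range = slV F (Fin n → F) := by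
  ext g
  constructor
  · rintro ⟨A, rfl⟩
    show LinearMap.det (Matrix.toLin' (A : Matrix (Fin n) (Fin n) F)) = 1
    rw [LinearMap.det_toLin', A.2]
  · intro hg
    have hg' : LinearMap.det (g : (Fin n → F) →ₗ[F] (Fin n → F)) = 1 := hg
    refine ⟨⟨LinearMap.toMatrix' (g : (Fin n → F) →ₗ[F] (Fin n → F)), by rw [LinearMap.det_toMatrix', hg']⟩, ?_⟩
    apply LinearEquiv.toLinearMap_injective
    exact Matrix.toLin'_toMatrix' _

theorem rb_sl {n : ℕ} {c : ℝ} (h : RB c (slV F (Fin n → F))) : RB c (Matrix.SpecialLinearGroup (Fin n) F) :=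
  rb_of_range _ Matrix.SpecialLinearGroup.toLin'_injective (range_toLin' n) h

theorem rb_psl [Finite F] {n : ℕ} {c : ℝ} (h : RB c (slV F (Fin n → F))) :
    RB c (Matrix.ProjectiveSpecialLinearGroup (Fin n) F) := by
  have h1 := rb_sl h
  have : Finite (Matrix.ProjectiveSpecialLinearGroup (Fin n) F) :=
    Finite.of_surjective _ (QuotientGroup.mk'_surjective (Subgroup.center (Matrix.SpecialLinearGroup (Fin n) F)))
  exact rb_surj (QuotientGroup.mk' (Subgroup.center (Matrix.SpecialLinearGroup (Fin n) F)))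
    (QuotientGroup.mk'_surjective _) h1

theorem add_pow_q [Fintype F] {q : ℕ} (hF : Fintype.card F = q ^ 2) (a b : F) : (a + b) ^ q = a ^ q + b ^ q := by
  obtain ⟨n, hp, hn⟩ := FiniteField.card F (ringChar F)
  haveI := Fact.mk hp
  have h1 : q ∣ ringChar F ^ (n : ℕ) := by
    rw [← hn, hF, pow_two]
    exact Dvd.intro _ rfl
  obtain ⟨k, -, rfl⟩ := (Nat.dvd_prime_pow hp).1 h1
  haveI := ringChar.charP F
  exact add_pow_char_pow _ _ _ _

theorem pow_q_q [Fintype F] {q : ℕ} (hF : Fintype.card F = q ^ 2) (a : F) : (a ^ q) ^ q = a := by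
  rw [← pow_mul, ← pow_two, ← hF, FiniteField.pow_card]

theorem q_ne_zero [Fintype F] {q : ℕ} (hF : Fintype.card F = q ^ 2) : q ≠ 0 := by
  rintro rfl
  have : 0 < Fintype.card F := Fintype.card_pos
  rw [hF] at this
  simp at this

theorem hermForm_symm [Fintype F] {n q : ℕ} (hF : Fintype.card F = q ^ 2) (x y : Fin n → F) :
    Cfsg.hermForm n F q y x = Cfsg.hermForm n F q x y ^ q := by
  let φ : F →+ F := ⟨⟨fun a => a ^ q, zero_pow (q_ne_zero hF)⟩, add_pow_q hF⟩
  have hφ : ∀ a, φ a = a ^ q := fun _ => rfl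
  unfold Cfsg.hermForm
  rw [← hφ, map_sum]
  refine Finset.sum_congr rfl fun i _ => ?_
  rw [hφ, mul_pow, pow_q_q hF, mul_comm]

/-- the hermitian form of `Cfsg.hermForm` -/
def hermFrm [Fintype F] (n : ℕ) {q : ℕ} (hF : Fintype.card F = q ^ 2) : Frm F (Fin n → F) where
  B := Cfsg.hermForm n F q
  q _ := 0
  s a := a ^ q
  add_left x y z := by
    simp only [Cfsg.hermForm, Pi.add_apply, add_mul, Finset.sum_add_distrib]
  add_right x y z := by
    simp only [Cfsg.hermForm, Pi.add_apply, add_pow_q hF, mul_add, Finset.sum_add_distrib]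
  smul_left a x y := by
    simp only [Cfsg.hermForm, Pi.smul_apply, smul_eq_mul, Finset.mul_sum, mul_assoc]
  smul_right a x y := by
    simp only [Cfsg.hermForm, Pi.smul_apply, smul_eq_mul, Finset.mul_sum, mul_pow]
    exact Finset.sum_congr rfl fun i _ => by ring
  refl x y h := by
    rw [hermForm_symm hF, h, zero_pow (q_ne_zero hF)]
  q_add _ _ _ := (add_zero 0).symm

theorem isHerm [Fintype F] (n : ℕ) {q : ℕ} (hF : Fintype.card F = q ^ 2) : IsHerm q (hermFrm n hF) where
  nd x h := by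
    ext i
    have h1 := h (Pi.single i 1)
    have h2 : Cfsg.hermForm n F q x (Pi.single i 1) = x i := by
      unfold Cfsg.hermForm
      rw [Finset.sum_eq_single i]
      · simp
      · intro j _ hj
        rw [Pi.single_eq_of_ne hj, zero_pow (q_ne_zero hF), mul_zero]
      · intro h
        exact absurd (Finset.mem_univ _) h
    have h3 : Cfsg.hermForm n F q x (Pi.single i 1) = 0 := h1
    rw [h2] at h3
    exact h3
  card := by rw [Nat.card_eq_fintype_card, hF]
  s _ := rfl
  q _ := rfl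
  symm x y := hermForm_symm hF x y

theorem rb_psu [Fintype F] {n q : ℕ} (hF : Fintype.card F = q ^ 2) {c : ℝ}
    (h : RB c ↥((hermFrm n hF).Iso ⊓ slV F (Fin n → F))) : RB c (Cfsg.PSU n F q) := by
  have h1 : RB c (Cfsg.SU n F q) := by
    refine rb_of_range (Matrix.SpecialLinearGroup.toLin'.comp (Cfsg.SU n F q).subtype)
      (Matrix.SpecialLinearGroup.toLin'_injective.comp (Subgroup.subtype_injective _)) ?_ h
    ext g
    constructor
    · rintro ⟨A, rfl⟩
      refine ⟨⟨fun x y => A.2 x y, fun _ => rfl⟩, ?_⟩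
      rw [← range_toLin' n]
      exact ⟨A.1, rfl⟩
    · rintro ⟨hg1, hg2⟩
      have hg2' : g ∈ slV F (Fin n → F) := hg2
      rw [← range_toLin' n] at hg2'
      obtain ⟨A, rfl⟩ := hg2'
      exact ⟨⟨A, fun x y => hg1.1 x y⟩, rfl⟩
  have : Finite (Cfsg.SU n F q) := inferInstance
  have : Finite (Cfsg.PSU n F q) :=
    Finite.of_surjective _ (QuotientGroup.mk'_surjective (Subgroup.center (Cfsg.SU n F q)))
  exact rb_surj (QuotientGroup.mk' (Subgroup.center (Cfsg.SU n F q))) (QuotientGroup.mk'_surjective _) h1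

/-- the symplectic form -/
def spFrm (m : ℕ) : Frm F (Fin m ⊕ Fin m → F) where
  B x y := x ⬝ᵥ ((Matrix.J (Fin m) F).mulVec y)
  q _ := 0
  s a := a
  add_left x y z := add_dotProduct x y _
  add_right x y z := by rw [Matrix.mulVec_add, dotProduct_add]
  smul_left a x y := by rw [smul_dotProduct, smul_eq_mul]
  smul_right a x y := by rw [Matrix.mulVec_smul, dotProduct_smul, smul_eq_mul]
  refl x y h := by
    have h1 : y ⬝ᵥ ((Matrix.J (Fin m) F).mulVec x) = -(x ⬝ᵥ ((Matrix.J (Fin m) F).mulVec y)) := by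
      rw [dotProduct_comm, ← Matrix.vecMul_transpose, Matrix.J_transpose, Matrix.vecMul_neg, neg_dotProduct,
        Matrix.dotProduct_mulVec]
    rw [h1, h, neg_zero]
  q_add _ _ _ := (add_zero 0).symm

theorem isSp (m : ℕ) : IsSp (spFrm (F := F) m) where
  nd x h := by
    have h1 : (Matrix.vecMul x (Matrix.J (Fin m) F)) = 0 := by
      ext i
      have h2 := h (Pi.single i 1)
      have h3 : x ⬝ᵥ ((Matrix.J (Fin m) F).mulVec (Pi.single i 1)) = 0 := h2
      rw [Matrix.dotProduct_mulVec, dotProduct_single_one] at h3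
      exact h3
    have h2 : Matrix.vecMul (Matrix.vecMul x (Matrix.J (Fin m) F)) (Matrix.J (Fin m) F) = -x := by
      rw [Matrix.vecMul_vecMul, Matrix.J_squared, Matrix.vecMul_neg, Matrix.vecMul_one]
    rw [h1, Matrix.zero_vecMul] at h2
    exact neg_eq_zero.1 h2.symm
  s _ := rfl
  q _ := rfl
  alt x := by
    show x ⬝ᵥ ((Matrix.J (Fin m) F).mulVec x) = 0
    rw [Matrix.J, Matrix.fromBlocks_mulVec, Matrix.neg_mulVec]
    simp [dotProduct, Fintype.sum_sum_type, mul_comm]

/-- the symplectic group as linear automorphisms -/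
noncomputable def spHom (m : ℕ) : Matrix.symplecticGroup (Fin m) F →* ((Fin m ⊕ Fin m → F) ≃ₗ[F] (Fin m ⊕ Fin m → F)) :=
  (glEquiv (Fin m ⊕ Fin m) F).toMonoidHom.comp (MonoidHom.toHomUnits (Submonoid.subtype _))

theorem spHom_apply (m : ℕ) (A : Matrix.symplecticGroup (Fin m) F) (v : Fin m ⊕ Fin m → F) :
    spHom m A v = (A : Matrix _ _ F).mulVec v := rfl

theorem range_spHom (m : ℕ) : (spHom (F := F) m).range = (spFrm (F := F) m).Iso := by
  ext g
  constructor
  · rintro ⟨A, rfl⟩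
    refine ⟨fun x y => ?_, fun _ => rfl⟩
    have h1 : (A : Matrix (Fin m ⊕ Fin m) (Fin m ⊕ Fin m) F).transpose * Matrix.J (Fin m) F * (A : Matrix _ _ F)
        = Matrix.J (Fin m) F := by
      exact SymplecticGroup.mem_iff'.1 A.2
    show ((A : Matrix _ _ F).mulVec x) ⬝ᵥ ((Matrix.J (Fin m) F).mulVec ((A : Matrix _ _ F).mulVec y)) =
      x ⬝ᵥ ((Matrix.J (Fin m) F).mulVec y)
    conv_rhs => rw [← h1]
    rw [← Matrix.vecMul_transpose, ← Matrix.dotProduct_mulVec, Matrix.mulVec_mulVec, Matrix.mulVec_mulVec]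
  · rintro ⟨hg, -⟩
    obtain ⟨A, rfl⟩ := (glEquiv (Fin m ⊕ Fin m) F).surjective g
    have hA : (A : Matrix (Fin m ⊕ Fin m) (Fin m ⊕ Fin m) F) ∈ Matrix.symplecticGroup (Fin m) F := by
      rw [SymplecticGroup.mem_iff']
      refine Matrix.ext_iff_mulVec.2 fun y => ?_
      rw [← sub_eq_zero]
      refine dotProduct_eq_zero _ fun x => ?_
      have h1 : ((A : Matrix _ _ F).mulVec x) ⬝ᵥ ((Matrix.J (Fin m) F).mulVec ((A : Matrix _ _ F).mulVec y)) =
        x ⬝ᵥ ((Matrix.J (Fin m) F).mulVec y) := hg x y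
      rw [← Matrix.vecMul_transpose, ← Matrix.dotProduct_mulVec, Matrix.mulVec_mulVec, Matrix.mulVec_mulVec] at h1
      rw [dotProduct_comm, dotProduct_sub, h1, sub_self]
    refine ⟨⟨A, hA⟩, ?_⟩
    have h1 : (MonoidHom.toHomUnits (Submonoid.subtype (Matrix.symplecticGroup (Fin m) F))) ⟨A, hA⟩ = A :=
      Units.ext rfl
    show glEquiv (Fin m ⊕ Fin m) F (MonoidHom.toHomUnits (Submonoid.subtype (Matrix.symplecticGroup (Fin m) F))
      ⟨A, hA⟩) = _
    rw [h1]

theorem spHom_injective (m : ℕ) : Function.Injective (spHom (F := F) m) := by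
  intro A B h
  have h1 := (glEquiv (Fin m ⊕ Fin m) F).injective h
  exact Subtype.ext (congrArg Units.val h1)

theorem rb_psp [Finite F] {m : ℕ} {c : ℝ} (h : RB c (spFrm (F := F) m).Iso) : RB c (Cfsg.PSp m F) := by
  have h1 : RB c (Matrix.symplecticGroup (Fin m) F) := rb_of_range _ (spHom_injective m) (range_spHom m) h
  have : Finite (Cfsg.PSp m F) :=
    Finite.of_surjective _ (QuotientGroup.mk'_surjective (Subgroup.center (Matrix.symplecticGroup (Fin m) F)))
  exact rb_surj (QuotientGroup.mk' (Subgroup.center (Matrix.symplecticGroup (Fin m) F)))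
    (QuotientGroup.mk'_surjective _) h1

theorem rb_pomega [Finite F] {ι : Type} [Fintype ι] [DecidableEq ι] {Q : QuadraticForm F (ι → F)} (hG : Good Q) {c : ℝ}
    (h : RB c (E Q)) : RB c (Cfsg.POmega F ⇑Q) := by
  have h1 : RB c (Cfsg.Omega F ⇑Q) :=
    rb_congr ((omegaEquiv Q).trans (MulEquiv.subgroupCongr hG.commutator_eq_E)) h
  have : Finite (Cfsg.Omega F ⇑Q) := inferInstance
  have : Finite (Cfsg.POmega F ⇑Q) :=
    Finite.of_surjective _ (QuotientGroup.mk'_surjective (Subgroup.center (Cfsg.Omega F ⇑Q)))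
  exact rb_surj (QuotientGroup.mk' (Subgroup.center (Cfsg.Omega F ⇑Q))) (QuotientGroup.mk'_surjective _) h1

end families

end Cfsg.Agent.H548.BS
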