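import Cfsg.Agent.H548.BS.Rows
import Cfsg.Agent.H278.ElAltNum
import Cfsg.Agent.H598.ExcFth
import Cfsg.Agent.H436.Simple

/-!
# S5733: assembly over all simple groups
-/

set_option autoImplicit false

namespace Cfsg.Agent.H548.BS

open Module Cfsg Cfsg.Agent.H851.Dg Cfsg.Agent.H847.Bs Cfsg.Agent.OrdDiv Cfsg.Agent.H436
open Cfsg.Agent.H278.El.AltNum (dimOf)
open Cfsg.Agent.H598.ExcFth (IsExc)
open QuadraticMap Cfsg.Agent.LieClassical.OrthCore Cfsg.Agent.LieClassical.OrthTrans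
  Cfsg.Agent.LieClassical.OrthFinite Cfsg.Agent.LieClassical.OrthForms

/-- a uniform constant for a family -/
def FamRB (P : Grp → Prop) : Prop :=
  ∃ c : ℝ, 0 < c ∧ ∀ (g : Grp) (T : Type) [Group T] [Finite T], IsNamed g T → P g → RB c T

theorem FamRB.or {P Q : Grp → Prop} (hP : FamRB P) (hQ : FamRB Q) : FamRB fun g => P g ∨ Q g := by
  obtain ⟨c, hc, h⟩ := hP
  obtain ⟨c', hc', h'⟩ := hQ
  refine ⟨min c c', lt_min hc hc', fun g T _ _ hT hg => ?_⟩
  rcases hg with hg | hg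
  · exact rb_mono (min_le_left _ _) (h g T hT hg)
  · exact rb_mono (min_le_right _ _) (h' g T hT hg)

theorem FamRB.mono {P Q : Grp → Prop} (hQ : FamRB Q) (h : ∀ g, P g → Q g) : FamRB P := by
  obtain ⟨c, hc, hh⟩ := hQ
  exact ⟨c, hc, fun g T _ _ hT hg => hh g T hT (h g hg)⟩

/-- a uniform constant for the simple groups of a family -/
def FamS (P : Grp → Prop) : Prop :=
  ∃ c : ℝ, 0 < c ∧ ∀ (g : Grp) (T : Type) [Group T] [Finite T] [IsSimpleGroup T], IsNamed g T → P g → RB c T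

theorem FamRB.toS {P : Grp → Prop} (h : FamRB P) : FamS P := by
  obtain ⟨c, hc, h⟩ := h
  exact ⟨c, hc, fun g T _ _ _ hT hg => h g T hT hg⟩

theorem FamS.or {P Q : Grp → Prop} (hP : FamS P) (hQ : FamS Q) : FamS fun g => P g ∨ Q g := by
  obtain ⟨c, hc, h⟩ := hP
  obtain ⟨c', hc', h'⟩ := hQ
  refine ⟨min c c', lt_min hc hc', fun g T _ _ _ hT hg => ?_⟩
  rcases hg with hg | hg
  · exact rb_mono (min_le_left _ _) (h g T hT hg)
  · exact rb_mono (min_le_right _ _) (h' g T hT hg)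

theorem FamS.mono {P Q : Grp → Prop} (hQ : FamS Q) (h : ∀ g, P g → Q g) : FamS P := by
  obtain ⟨c, hc, hh⟩ := hQ
  exact ⟨c, hc, fun g T _ _ _ hT hg => hh g T hT (h g hg)⟩

/-- from rows for maximal subgroups (`ConstRow` of `H851.Dg.AsmFin`) -/
theorem famS_of_rowB {P : Grp → Prop} (h : ∃ c : ℝ, 0 < c ∧ ∀ (g : Grp) (T : Type) [Group T] [Finite T]
    [IsSimpleGroup T], IsNamed g T → P g → RowB c T) : FamS P := by
  obtain ⟨c, hc, h⟩ := h
  exact ⟨c, hc, fun g T _ _ _ hT hg => rb_of_rowB (h g T hT hg)⟩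

/-- names of classical groups -/
def Cl : Grp → Prop
  | .psl _ _ => True
  | .psp _ _ => True
  | .psu _ _ => True
  | .oodd _ _ => True
  | .oplus _ _ => True
  | .ominus _ _ => True
  | _ => False

/-- BS40 (d) -/
def BdRow : Prop := ∀ d : ℕ, FamRB fun g => Cl g ∧ dimOf g ≤ d

/-- BS40 (e) -/
def ExcRow : Prop := FamRB IsExc

/-- BS40 (d), weaker form -/
def BdRowS : Prop := ∀ d : ℕ, FamS fun g => Cl g ∧ dimOf g ≤ d

/-- BS40 (e), weaker form -/
def ExcRowS : Prop := FamS IsExc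

/-- the names with bounded order -/
def Spo : Grp → Prop
  | .alt _ => False
  | .psl _ _ => False
  | .psp _ _ => False
  | .psu _ _ => False
  | .oodd _ _ => False
  | .oplus _ _ => False
  | .ominus _ _ => False
  | .g2 _ => False
  | .f4 _ => False
  | .e6 _ => False
  | .e7 _ => False
  | .e8 _ => False
  | .te6 _ => False
  | .td4 _ => False
  | .sz _ => False
  | .ree _ => False
  | .tf4 _ => False
  | _ => True

/-- the list of the names with bounded order -/
def spoList : List Grp := [.tits, .m11, .m12, .m22, .m23, .m24, .j1, .j2, .j3, .j4, .co1, .co2, .co3, .mcl, .hs, .suz,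
  .he, .ru, .on, .ly, .fi22, .fi23, .fi24, .hn, .th, .b, .m]

theorem mem_spoList {g : Grp} (h : Spo g) : g ∈ spoList := by
  cases g <;> first | exact h.elim | decide

theorem fam_spo : FamRB Spo := by
  set N := (spoList.map ordN).sum + 1 with hN
  have hN0 : (0 : ℝ) < N := by exact_mod_cast Nat.succ_pos _
  refine ⟨1 / (N : ℝ), by positivity, fun g T _ _ hT hg => rb_small ?_ (Nat.succ_pos _)⟩
  rw [hT.ord]
  exact (List.single_le_sum (fun _ _ => Nat.zero_le _) _ (List.mem_map_of_mem (mem_spoList hg))).trans (Nat.le_succ _)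

theorem fam_alt : FamRB fun g => ∃ n, g = .alt n := by
  obtain ⟨c, hc, h⟩ := row_alt_rb
  refine ⟨c, hc, ?_⟩
  rintro g T _ _ hT ⟨n, rfl⟩
  obtain ⟨e⟩ : Nonempty (T ≃* ↥(alternatingGroup (Fin n))) := hT.real
  exact rb_congr e (h n hT.cond)

theorem fam_psl (h : RowSL) : ∃ n₀ : ℕ, FamRB fun g => (∃ n q, g = .psl n q) ∧ n₀ ≤ dimOf g := by
  obtain ⟨c, hc, n₀, h⟩ := h
  refine ⟨n₀, c, hc, ?_⟩
  rintro g T _ _ hT ⟨⟨n, q, rfl⟩, hn⟩
  obtain ⟨F, _, _, hF, ⟨e⟩⟩ := hT.real
  have hn' : n₀ ≤ finrank F (Fin n → F) := by rw [finrank_fin_fun]; exact hn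
  exact rb_congr e (rb_psl (rb_of_ndV (h F (Fin n → F) hn')))

theorem fam_psp (h : RowSp) : ∃ n₀ : ℕ, FamRB fun g => (∃ n q, g = .psp n q) ∧ n₀ ≤ dimOf g := by
  obtain ⟨c, hc, n₀, h⟩ := h
  refine ⟨n₀, c, hc, ?_⟩
  rintro g T _ _ hT ⟨⟨m, q, rfl⟩, hn⟩
  obtain ⟨F, _, _, hF, ⟨e⟩⟩ := hT.real
  have hn' : n₀ ≤ finrank F (Fin m ⊕ Fin m → F) := by
    rw [finrank_fintype_fun_eq_card, Fintype.card_sum, Fintype.card_fin, ← two_mul]
    exact hn
  exact rb_congr e (rb_psp (rb_of_ndV (h F _ (spFrm m) (isSp m) hn')))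

theorem fam_psu (h : RowSU) : ∃ n₀ : ℕ, FamRB fun g => (∃ n q, g = .psu n q) ∧ n₀ ≤ dimOf g := by
  obtain ⟨c, hc, n₀, h⟩ := h
  refine ⟨n₀, c, hc, ?_⟩
  rintro g T _ _ hT ⟨⟨n, q, rfl⟩, hn⟩
  obtain ⟨F, _, _, hF, ⟨e⟩⟩ := hT.real
  have hn' : n₀ ≤ finrank F (Fin n → F) := by rw [finrank_fin_fun]; exact hn
  exact rb_congr e (rb_psu hF (rb_of_ndV (h F (Fin n → F) q (hermFrm n hF) (isHerm n hF) hn')))

theorem fam_orth (h : RowOm) : ∃ n₀ : ℕ, FamRB fun g => ((∃ m q, g = .oodd m q) ∨ (∃ m q, g = .oplus m q) ∨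
    (∃ m q, g = .ominus m q)) ∧ n₀ ≤ dimOf g := by
  obtain ⟨c, hc, n₀, h⟩ := h
  refine ⟨n₀, c, hc, ?_⟩
  rintro g T _ _ hT ⟨⟨m, q, rfl⟩ | ⟨m, q, rfl⟩ | ⟨m, q, rfl⟩, hn⟩
  · obtain ⟨F, _, _, hF, ⟨e⟩⟩ := hT.real
    have ho : Odd q := hT.cond.2.1
    have hm : 3 ≤ m := hT.cond.1
    have h2 : (2 : F) ≠ 0 := by
      intro h2
      have h3' : CharP F 2 := by
        refine (CharP.charP_iff_prime_eq_zero Nat.prime_two).2 ?_
        exact_mod_cast h2
      have h3 : ringChar F = 2 := ringChar.eq_iff.2 h3'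
      have h4 := FiniteField.even_card_iff_char_two.1 h3
      rw [hF] at h4
      have := Nat.odd_iff.1 ho
      omega
    have hQ := nondeg_oddForm (F := F) (m := m) h2
    have hcard : Fintype.card (Unit ⊕ (Fin m ⊕ Fin m)) = 2 * m + 1 := by
      rw [Fintype.card_sum, Fintype.card_sum, Fintype.card_fin, Fintype.card_unit]; omega
    have hG : Good (oddForm m F) := good_of_finite hQ (by rw [finrank_fintype_fun_eq_card, hcard]; omega)
    have hn' : n₀ ≤ finrank F (Unit ⊕ (Fin m ⊕ Fin m) → F) := by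
      rw [finrank_fintype_fun_eq_card, hcard]; exact hn
    have h5 := rb_pomega hG (rb_of_ndV (h F _ (oddForm m F) hQ hn'))
    rw [coe_oddForm] at h5
    exact rb_congr e h5
  · obtain ⟨F, _, _, hF, ⟨e⟩⟩ := hT.real
    have hm : 4 ≤ m := hT.cond.1
    have hQ := nondeg_plusForm (F := F) (m := m)
    have hcard : Fintype.card (Fin m ⊕ Fin m) = 2 * m := by
      rw [Fintype.card_sum, Fintype.card_fin]; omega
    have hG : Good (plusForm m F) := good_of_finite hQ (by rw [finrank_fintype_fun_eq_card, hcard]; omega)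
    have hn' : n₀ ≤ finrank F (Fin m ⊕ Fin m → F) := by
      rw [finrank_fintype_fun_eq_card, hcard]; exact hn
    have h5 := rb_pomega hG (rb_of_ndV (h F _ (plusForm m F) hQ hn'))
    rw [coe_plusForm] at h5
    exact rb_congr e h5
  · obtain ⟨F, _, _, a, b, hF, hab, ⟨e⟩⟩ := hT.real
    have hm : 4 ≤ m := hT.cond.1
    have hQ := nondeg_minusForm (F := F) (m := m - 1) a b hab
    have hcard : Fintype.card ((Fin (m - 1) ⊕ Fin (m - 1)) ⊕ Fin 2) = 2 * m := by
      rw [Fintype.card_sum, Fintype.card_sum, Fintype.card_fin, Fintype.card_fin]; omega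
    have hG : Good (minusForm (m - 1) F a b) :=
      good_of_finite hQ (by rw [finrank_fintype_fun_eq_card, hcard]; omega)
    have hn' : n₀ ≤ finrank F ((Fin (m - 1) ⊕ Fin (m - 1)) ⊕ Fin 2 → F) := by
      rw [finrank_fintype_fun_eq_card, hcard]; exact hn
    have h5 := rb_pomega hG (rb_of_ndV (h F _ (minusForm (m - 1) F a b) hQ hn'))
    rw [coe_minusForm] at h5
    exact rb_congr e h5

/-- all names -/
theorem fam_all (h1 : RowSL) (h2 : RowSp) (h3 : RowSU) (h4 : RowOm) (h5 : BdRowS) (h6 : ExcRowS) :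
    FamS fun _ => True := by
  obtain ⟨n1, h1⟩ := fam_psl h1
  obtain ⟨n2, h2⟩ := fam_psp h2
  obtain ⟨n3, h3⟩ := fam_psu h3
  obtain ⟨n4, h4⟩ := fam_orth h4
  refine (((((h1.or h2).or (h3.or h4)).toS).or (h5 (max (max n1 n2) (max n3 n4)))).or
    (h6.or (fam_spo.or fam_alt).toS)).mono ?_
  intro g _
  by_cases hcl : Cl g
  · left
    by_cases hd : dimOf g ≤ max (max n1 n2) (max n3 n4)
    · exact Or.inr ⟨hcl, hd⟩
    · left
      have e1 := le_max_left (max n1 n2) (max n3 n4)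
      have e2 := le_max_right (max n1 n2) (max n3 n4)
      have e3 := le_max_left n1 n2
      have e4 := le_max_right n1 n2
      have e5 := le_max_left n3 n4
      have e6 := le_max_right n3 n4
      cases g with
      | psl n q => exact Or.inl (Or.inl ⟨⟨n, q, rfl⟩, by omega⟩)
      | psp n q => exact Or.inl (Or.inr ⟨⟨n, q, rfl⟩, by omega⟩)
      | psu n q => exact Or.inr (Or.inl ⟨⟨n, q, rfl⟩, by omega⟩)
      | oodd n q => exact Or.inr (Or.inr ⟨Or.inl ⟨n, q, rfl⟩, by omega⟩)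
      | oplus n q => exact Or.inr (Or.inr ⟨Or.inr (Or.inl ⟨n, q, rfl⟩), by omega⟩)
      | ominus n q => exact Or.inr (Or.inr ⟨Or.inr (Or.inr ⟨n, q, rfl⟩), by omega⟩)
      | _ => exact hcl.elim
  · right
    cases g with
    | alt n => exact Or.inr (Or.inr ⟨n, rfl⟩)
    | psl n q => exact (hcl trivial).elim
    | psp n q => exact (hcl trivial).elim
    | psu n q => exact (hcl trivial).elim
    | oodd n q => exact (hcl trivial).elim
    | oplus n q => exact (hcl trivial).elim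
    | ominus n q => exact (hcl trivial).elim
    | g2 q => exact Or.inl trivial
    | f4 q => exact Or.inl trivial
    | e6 q => exact Or.inl trivial
    | e7 q => exact Or.inl trivial
    | e8 q => exact Or.inl trivial
    | te6 q => exact Or.inl trivial
    | td4 q => exact Or.inl trivial
    | sz q => exact Or.inl trivial
    | ree q => exact Or.inl trivial
    | tf4 q => exact Or.inl trivial
    | _ => exact Or.inr (Or.inl trivial)

universe u v

/-- **S5733 from the rows.** -/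
theorem main (h : FamS fun _ => True) : ∃ ε : ℝ, 0 < ε ∧ ∀ (G : Type u) (Ω : Type v) [Group G] [Finite G]
    [IsSimpleGroup G] [MulAction G Ω] [FaithfulSMul G Ω] [Fintype Ω], MulAction.IsPretransitive G Ω →
    2 ≤ Fintype.card Ω → ε * (Nat.card G : ℝ) ≤ Nat.card {g : G // ∀ ω : Ω, g • ω ≠ ω} := by
  obtain ⟨c, hc, h⟩ := h
  refine ⟨min c (1 / 2), lt_min hc (by norm_num), ?_⟩
  intro G Ω _ _ _ _ _ _ htr hcard
  have hc0 : (0 : ℝ) ≤ (Nat.card G : ℝ) := Nat.cast_nonneg _
  obtain ⟨ω, ω', hne⟩ := Fintype.exists_pair_of_one_lt_card (by omega : 1 < Fintype.card Ω)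
  by_cases hcomm : IsMulCommutative G
  · -- prime order
    refine (mul_le_mul_of_nonneg_right (min_le_right _ _) hc0).trans ?_
    have h1 : ∀ g : G, g ≠ 1 → ∀ a : Ω, g • a ≠ a := by
      intro g hg a hga
      apply hg
      apply FaithfulSMul.eq_of_smul_eq_smul (α := Ω)
      intro b
      obtain ⟨k, rfl⟩ := MulAction.exists_smul_eq G a b
      rw [smul_smul, hcomm.is_comm.comm g k, mul_smul, hga, one_smul]
    classical
    have := Fintype.ofFinite G
    have h2 : Nat.card G - 1 ≤ Nat.card {g : G // ∀ a : Ω, g • a ≠ a} := by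
      have h3 : Nat.card {g : G // g ≠ 1} = Nat.card G - 1 := by
        rw [Nat.card_eq_fintype_card, Nat.card_eq_fintype_card, Fintype.card_subtype_compl, Fintype.card_subtype_eq]
      rw [← h3]
      exact Nat.card_le_card_of_injective (fun g : {g : G // g ≠ 1} =>
        (⟨g.1, h1 g.1 g.2⟩ : {g : G // ∀ a : Ω, g • a ≠ a})) fun a b hab => Subtype.ext (Subtype.mk.inj hab)
    have h3 : 2 ≤ Nat.card G := Finite.one_lt_card
    have h4 : (Nat.card G : ℝ) - 1 ≤ Nat.card {g : G // ∀ a : Ω, g • a ≠ a} := by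
      have h5 : ((Nat.card G - 1 : ℕ) : ℝ) ≤ Nat.card {g : G // ∀ a : Ω, g • a ≠ a} := by exact_mod_cast h2
      rwa [Nat.cast_sub (by omega), Nat.cast_one] at h5
    have h5 : (2 : ℝ) ≤ Nat.card G := by exact_mod_cast h3
    linarith
  · refine (mul_le_mul_of_nonneg_right (min_le_left _ _) hc0).trans ?_
    -- a copy of `G` in `Type`
    have : Small.{0} G := inferInstance
    let e : Shrink.{0} G ≃* G := Shrink.mulEquiv
    have : Finite (Shrink.{0} G) := Finite.of_equiv G (equivShrink G)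
    have hsimp : IsSimpleGroup (Shrink.{0} G) := e.isSimpleGroup
    have hna0 : ¬ IsMulCommutative (Shrink.{0} G) := fun hc => hcomm ⟨⟨fun a b => e.symm.injective (by
      rw [map_mul, map_mul]; exact hc.is_comm.comm _ _)⟩⟩
    obtain ⟨g, hg⟩ := name hna0
    have h1 : RB c G := rb_congr e.symm (h g _ hg trivial)
    have h2 : MulAction.stabilizer G ω ≠ ⊤ := by
      intro h3
      obtain ⟨k, hk⟩ := MulAction.exists_smul_eq G ω ω'
      have h4 : k ∈ MulAction.stabilizer G ω := by rw [h3]; trivial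
      exact hne ((MulAction.mem_stabilizer_iff.1 h4).symm.trans hk)
    refine (h1 _ h2).trans ?_
    have h3 : nd (MulAction.stabilizer G ω) ≤ Nat.card {g : G // ∀ ω : Ω, g • ω ≠ ω} := by
      refine Nat.card_le_card_of_injective
        (fun x : {x : G // ∀ g : G, g * x * g⁻¹ ∉ MulAction.stabilizer G ω} =>
          (⟨x.1, fun a ha => ?_⟩ : {g : G // ∀ ω : Ω, g • ω ≠ ω})) fun a b hab => Subtype.ext (Subtype.mk.inj hab)
      obtain ⟨k, rfl⟩ := MulAction.exists_smul_eq G ω a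
      refine x.2 k⁻¹ ?_
      rw [MulAction.mem_stabilizer_iff, inv_inv, mul_smul, mul_smul, ha, inv_smul_smul]
    exact_mod_cast h3

end Cfsg.Agent.H548.BS
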