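import Cfsg.Agent.H548.BS.AltPerm
import Cfsg.Agent.H663.AltD.Main

/-!
# S5733, alternating groups

`row_alt` : there is `c > 0` with `c |A_n| ≤ nd K` for all `n ≥ 5` and all maximal subgroups `K` of `A_n`.
-/

set_option autoImplicit false

namespace Cfsg.Agent.H548.BS

open Equiv Equiv.Perm Cfsg.Agent.H851.Dg
open scoped Pointwise Nat

variable {n : ℕ}

/-- intransitive subgroups -/
theorem alt_intrans (hn : 7 ≤ n) {S : Set (Fin n)} (h0 : S.Nonempty) (h1 : S ≠ Set.univ) :
    Nat.card (alternatingGroup (Fin n)) ≤ 2 * Fintype.card (Fin 4 → Fin 4 → Bool) *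
      nd (MulAction.stabilizer (alternatingGroup (Fin n)) S) := by
  classical
  obtain ⟨x0, hx0⟩ := h0
  obtain ⟨y0, hy0⟩ := (Set.ne_univ_iff_exists_notMem S).1 h1
  have hst : ∀ g : Perm (Fin n), g • S = S ↔ ∀ x, g x ∈ S ↔ x ∈ S := by
    intro g
    constructor
    · intro h x
      have h2 : g • x ∈ g • S ↔ x ∈ S := Set.smul_mem_smul_set_iff
      rw [h] at h2
      exact h2
    · intro h
      ext x
      rw [Set.mem_smul_set_iff_inv_smul_mem, ← h]
      show g (g⁻¹ x) ∈ S ↔ x ∈ S
      rw [← Perm.mul_apply, mul_inv_cancel, Perm.one_apply]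
  refine swap_rank (X := Fin n) (Ω := Set (Fin n)) S (fun x y => x ∈ S ∧ y ∉ S) ⟨x0, y0, hx0, hy0⟩ ?_ ?_ ?_
    (fun u i j => decide (u i = u j)) ?_
  · intro k hk x y hxy
    rw [hst] at hk
    exact ⟨(hk x).2 hxy.1, fun h => hxy.2 ((hk y).1 h)⟩
  · intro x y hxy h
    rw [hst] at h
    have h2 := h x
    rw [swap_apply_left] at h2
    exact hxy.2 (h2.2 hxy.1)
  · intro F hF
    have h2 : (Finset.univ : Finset Bool).card < (Finset.univ \ F).card := by
      rw [← Finset.compl_eq_univ_sdiff, Finset.card_compl, Fintype.card_fin]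
      show 2 < n - F.card
      omega
    obtain ⟨p, hp, q, hq, hpq, hc⟩ := Finset.exists_ne_map_eq_of_card_lt_of_maps_to h2
      (f := fun x => decide (x ∈ S)) (fun x _ => Finset.mem_univ _)
    refine ⟨p, q, hpq, (Finset.mem_sdiff.1 hp).2, (Finset.mem_sdiff.1 hq).2, ?_⟩
    have hc' : p ∈ S ↔ q ∈ S := by simpa using hc
    rw [hst]
    intro x
    rw [swap_apply_def]
    split_ifs with h3 h4
    · rw [h3, hc']
    · rw [h4, hc']
    · rfl
  · intro u v hu1 hu2 hv1 hv2 hp
    obtain ⟨g, hg1, hg2⟩ := exists_perm_color (fun x => decide (x ∈ S)) u v (by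
      intro i
      fin_cases i
      · exact decide_eq_decide.2 (iff_of_true hu1.1 hv1.1)
      · exact decide_eq_decide.2 (iff_of_false hu1.2 hv1.2)
      · exact decide_eq_decide.2 (iff_of_true hu2.1 hv2.1)
      · exact decide_eq_decide.2 (iff_of_false hu2.2 hv2.2)) (by
      intro i j
      have := congrFun (congrFun hp i) j
      simpa using this)
    refine ⟨g, (hst g).2 fun x => ?_, hg2⟩
    have := hg1 x
    simpa using this

/-- imprimitive subgroups -/
theorem alt_imprim (hn : 9 ≤ n) {β α : Type*} [Fintype β] [Fintype α] [DecidableEq β] [DecidableEq α]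
    (e : Fin n ≃ β × α) (hβ : 2 ≤ Fintype.card β) (hα : 2 ≤ Fintype.card α) :
    Nat.card (alternatingGroup (Fin n)) ≤ 2 * Fintype.card (Fin 4 → Fin 4 → Bool × Bool) *
      nd (MulAction.stabilizer (alternatingGroup (Fin n)) {p : Fin n × Fin n | (e p.1).1 = (e p.2).1}) := by
  classical
  set R : Set (Fin n × Fin n) := {p : Fin n × Fin n | (e p.1).1 = (e p.2).1} with hR
  have hmem : ∀ x y, (x, y) ∈ R ↔ (e x).1 = (e y).1 := fun x y => Iff.rfl
  have hcard : n = Fintype.card β * Fintype.card α := by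
    have := Fintype.card_congr e
    rwa [Fintype.card_fin, Fintype.card_prod] at this
  have hst : ∀ g : Perm (Fin n), g • R = R ↔ ∀ x y, (e (g x)).1 = (e (g y)).1 ↔ (e x).1 = (e y).1 := by
    intro g
    constructor
    · intro h x y
      have h2 : g • (x, y) ∈ g • R ↔ (x, y) ∈ R := Set.smul_mem_smul_set_iff
      rw [h] at h2
      exact h2
    · intro h
      ext ⟨x, y⟩
      rw [Set.mem_smul_set_iff_inv_smul_mem]
      have h2 := h (g⁻¹ x) (g⁻¹ y)
      rw [← Perm.mul_apply, ← Perm.mul_apply, mul_inv_cancel, Perm.one_apply, Perm.one_apply] at h2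
      exact h2.symm
  have hα' : ∀ a : α, ∃ b : α, b ≠ a := fun a => by
    have : Nontrivial α := Fintype.one_lt_card_iff_nontrivial.1 (by omega)
    exact exists_ne a
  refine swap_rank (X := Fin n) (Ω := Set (Fin n × Fin n)) R (fun x y => (e x).1 ≠ (e y).1) ?_ ?_ ?_ ?_
    (fun u i j => (decide (u i = u j), decide ((e (u i)).1 = (e (u j)).1))) ?_
  · have hn1 : Nontrivial β := Fintype.one_lt_card_iff_nontrivial.1 (by omega)
    obtain ⟨b1, b2, hb⟩ := exists_pair_ne β
    have hn2 : Nontrivial α := Fintype.one_lt_card_iff_nontrivial.1 (by omega)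
    obtain ⟨a1, a2, -⟩ := exists_pair_ne α
    refine ⟨e.symm (b1, a1), e.symm (b2, a1), ?_⟩
    simpa using hb
  · intro k hk x y hxy h
    exact hxy (((hst k).1 hk x y).1 h)
  · intro x y hxy h
    obtain ⟨b, hb⟩ := hα' (e x).2
    set z := e.symm ((e x).1, b) with hz
    have hz1 : e z = ((e x).1, b) := e.apply_symm_apply _
    have hzx : z ≠ x := by
      intro h3
      rw [h3] at hz1
      apply hb
      rw [hz1]
    have hzy : z ≠ y := by
      intro h3
      rw [h3] at hz1
      exact hxy (by rw [hz1])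
    have h2 := (hst _).1 h x z
    rw [swap_apply_left, swap_apply_of_ne_of_ne hzx hzy, hz1] at h2
    exact hxy (h2.2 rfl).symm
  · intro F hF
    have h2 : (Finset.univ : Finset β).card < (Finset.univ \ F).card := by
      rw [← Finset.compl_eq_univ_sdiff, Finset.card_compl, Fintype.card_fin, Finset.card_univ]
      have : 2 * Fintype.card β ≤ n := by
        rw [hcard]
        calc 2 * Fintype.card β = Fintype.card β * 2 := Nat.mul_comm _ _
          _ ≤ _ := Nat.mul_le_mul_left _ hα
      omega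
    obtain ⟨p, hp, q, hq, hpq, hc⟩ := Finset.exists_ne_map_eq_of_card_lt_of_maps_to h2
      (f := fun x => (e x).1) (fun x _ => Finset.mem_univ _)
    refine ⟨p, q, hpq, (Finset.mem_sdiff.1 hp).2, (Finset.mem_sdiff.1 hq).2, ?_⟩
    have hc' : (e p).1 = (e q).1 := hc
    have h3 : ∀ x, (e (swap p q x)).1 = (e x).1 := by
      intro x
      rw [swap_apply_def]
      split_ifs with h3 h4
      · rw [h3, hc']
      · rw [h4, hc']
      · rfl
    rw [hst]
    intro x y
    rw [h3, h3]
  · intro u v _ _ _ _ hp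
    have hp1 : ∀ i j, (u i = u j ↔ v i = v j) ∧ ((e (u i)).1 = (e (u j)).1 ↔ (e (v i)).1 = (e (v j)).1) := by
      intro i j
      have := congrFun (congrFun hp i) j
      simpa using this
    obtain ⟨g, hg1, hg2⟩ := exists_perm_block (fun i => e (u i)) (fun i => e (v i)) (fun i j => (hp1 i j).2)
      (fun i j => by rw [e.apply_eq_iff_eq, e.apply_eq_iff_eq]; exact (hp1 i j).1)
    refine ⟨(e.trans g).trans e.symm, (hst _).2 fun x y => ?_, fun i => ?_⟩
    · have h3 : ∀ x, e (((e.trans g).trans e.symm : Perm (Fin n)) x) = g (e x) := fun x => by simp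
      rw [h3, h3, hg1]
    · show e.symm (g (e (u i))) = v i
      rw [hg2, e.symm_apply_apply]

/-- the permutations with three fixed points -/
def TF (n : ℕ) : Set (alternatingGroup (Fin n)) :=
  {k | ∃ a : Fin 3 ↪ Fin n, ∀ i, (k : Perm (Fin n)) (a i) = a i}

theorem card_TF (hn : 8 ≤ n) :
    Nat.card (alternatingGroup (Fin n)) ≤
      Fintype.card (Fin 3 ⊕ Fin 3 → Fin 3 ⊕ Fin 3 → Bool) * Nat.card (TF n) := by
  classical
  have hne : Nonempty (Fin 3 ↪ Fin n) := ⟨Fin.castLEEmb (by omega)⟩
  have h := second_moment (K := alternatingGroup (Fin n)) (Δ := Fin 3 ↪ Fin n)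
    (Fintype.card (Fin 3 ⊕ Fin 3 → Fin 3 ⊕ Fin 3 → Bool))
    (fun a b => Fintype.equivFin _ (fun i j => decide (Sum.elim a b i = Sum.elim a b j))) (by
      intro a b a' b' hab
      have hab' := (Fintype.equivFin _).injective hab
      obtain ⟨g, -, hg⟩ := exists_perm_color (fun _ : Fin n => ()) (Sum.elim a b) (Sum.elim a' b') (fun _ => rfl) (by
        intro i j
        have := congrFun (congrFun hab' i) j
        simpa using this)
      have hk : ∃ k : alternatingGroup (Fin n), ∀ i, (k : Perm (Fin n)) (Sum.elim a b i) = Sum.elim a' b' i := by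
        rcases Int.units_eq_one_or (sign g) with hs | hs
        · exact ⟨⟨g, mem_alternatingGroup.2 hs⟩, hg⟩
        · have h2 : 1 < (Finset.univ \ (Finset.univ.image (Sum.elim a' b'))).card := by
            rw [← Finset.compl_eq_univ_sdiff, Finset.card_compl, Fintype.card_fin]
            have h3 : (Finset.univ.image (Sum.elim a' b')).card ≤ 6 :=
              le_trans Finset.card_image_le (by rw [Finset.card_univ, Fintype.card_sum, Fintype.card_fin])
            omega
          obtain ⟨p, hp, q, hq, hpq⟩ := Finset.one_lt_card.1 h2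
          refine ⟨⟨swap p q * g, mem_alternatingGroup.2 (by rw [Perm.sign_mul, sign_swap hpq, hs]; rfl)⟩,
            fun i => ?_⟩
          show (swap p q * g) (Sum.elim a b i) = _
          rw [Perm.mul_apply, hg]
          refine swap_apply_of_ne_of_ne ?_ ?_
          · rintro rfl
            exact (Finset.mem_sdiff.1 hp).2 (Finset.mem_image_of_mem _ (Finset.mem_univ _))
          · rintro rfl
            exact (Finset.mem_sdiff.1 hq).2 (Finset.mem_image_of_mem _ (Finset.mem_univ _))
      obtain ⟨k, hk⟩ := hk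
      exact ⟨k, Function.Embedding.ext fun i => hk (Sum.inl i), Function.Embedding.ext fun i => hk (Sum.inr i)⟩)
  refine h.trans (Nat.mul_le_mul_left _ ?_)
  refine Nat.card_le_card_of_injective (fun k : {k : alternatingGroup (Fin n) // ∃ a : Fin 3 ↪ Fin n, k • a = a} =>
    (⟨k.1, ?_⟩ : TF n)) fun a b hab => Subtype.ext (Subtype.mk.inj hab)
  obtain ⟨a, ha⟩ := k.2
  exact ⟨a, fun i => congrArg (fun f : Fin 3 ↪ Fin n => f i) ha⟩

/-- primitive subgroups -/
theorem alt_prim (hn : 8 ≤ n) {K : Subgroup (alternatingGroup (Fin n))} (hK : K ≠ ⊤)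
    (hp : MulAction.IsPreprimitive (K.map (alternatingGroup (Fin n)).subtype) (Fin n)) :
    Nat.card (alternatingGroup (Fin n)) ≤
      2 * Fintype.card (Fin 3 ⊕ Fin 3 → Fin 3 ⊕ Fin 3 → Bool) * nd K := by
  classical
  have h1 : Nat.card (TF n) ≤ 2 * nd K := by
    refine comm_bound (TF n) ?_
    rintro x ⟨a, ha⟩ g -
    have h01 : a 0 ≠ a 1 := fun h => by simpa using a.injective h
    have h02 : a 0 ≠ a 2 := fun h => by simpa using a.injective h
    have h12 : a 1 ≠ a 2 := fun h => by simpa using a.injective h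
    set d : Perm (Fin n) := swap (a 0) (a 1) * swap (a 0) (a 2) with hd
    have hd3 : IsThreeCycle d := isThreeCycle_swap_mul_swap_same h01 h02 h12
    have hxs : ∀ i j, (x : Perm (Fin n)) * swap (a i) (a j) = swap (a i) (a j) * x := by
      intro i j
      have h2 := Equiv.swap_apply_apply (x : Perm (Fin n)) (a i) (a j)
      rw [ha, ha] at h2
      have h3 : swap (a i) (a j) * (x : Perm (Fin n)) = x * swap (a i) (a j) := by
        calc swap (a i) (a j) * (x : Perm (Fin n))
            = ((x : Perm (Fin n)) * swap (a i) (a j) * (x : Perm (Fin n))⁻¹) * x := by rw [← h2]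
          _ = x * swap (a i) (a j) := by group
      exact h3.symm
    refine ⟨⟨d, hd3.mem_alternatingGroup⟩, ?_, ?_⟩
    · apply Subtype.ext
      show d * (x : Perm (Fin n)) = x * d
      rw [hd, ← mul_assoc, hxs, mul_assoc, ← hxs, mul_assoc]
    · intro hmem
      apply hK
      have h4 : IsThreeCycle ((g : Perm (Fin n)) * d * (g : Perm (Fin n))⁻¹) := by
        unfold IsThreeCycle
        rw [Perm.cycleType_conj]
        exact hd3
      have h5 := Equiv.Perm.alternatingGroup_le_of_isPreprimitive_of_isThreeCycle_mem hp h4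
        (Subgroup.mem_map.2 ⟨_, hmem, rfl⟩)
      rw [eq_top_iff]
      intro y _
      obtain ⟨z, hz, hzy⟩ := Subgroup.mem_map.1 (h5 y.2)
      have : z = y := Subtype.ext hzy
      rwa [← this]
  calc Nat.card (alternatingGroup (Fin n)) ≤ _ := card_TF hn
    _ ≤ Fintype.card (Fin 3 ⊕ Fin 3 → Fin 3 ⊕ Fin 3 → Bool) * (2 * nd K) := Nat.mul_le_mul_left _ h1
    _ = _ := by ring

/-- the block system of a transitive imprimitive group -/
theorem exists_blocks {G X : Type*} [Group G] [MulAction G X] [Finite X] [MulAction.IsPretransitive G X] [Nonempty X]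
    (h : ¬ MulAction.IsPreprimitive G X) :
    ∃ (k m : ℕ) (e : X ≃ Fin k × Fin m), 2 ≤ k ∧ 2 ≤ m ∧
      ∀ (g : G) (x y : X), (e (g • x)).1 = (e (g • y)).1 ↔ (e x).1 = (e y).1 := by
  classical
  have h1 : ∃ B : Set X, MulAction.IsBlock G B ∧ ¬ MulAction.IsTrivialBlock B := by
    by_contra hcon
    push Not at hcon
    exact h ⟨fun {B} hB => hcon B hB⟩
  obtain ⟨B, hB, hBt⟩ := h1
  have hB1 : ¬ B.Subsingleton := fun h => hBt (Or.inl h)
  have hB2 : B ≠ Set.univ := fun h => hBt (Or.inr h)
  rw [Set.not_subsingleton_iff] at hB1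
  obtain ⟨b0, hb0⟩ := hB1.nonempty
  choose r hr using fun x : X => MulAction.exists_smul_eq G b0 x
  let c : X → Set X := fun x => r x • B
  have hcx : ∀ x, x ∈ c x := fun x => by
    have : r x • b0 ∈ r x • B := Set.smul_mem_smul_set hb0
    rwa [hr] at this
  have huniq : ∀ (g : G) (x : X), x ∈ g • B → g • B = c x := fun g x hx =>
    hB.smul_eq_smul_of_nonempty ⟨x, hx, hcx x⟩
  have hcy : ∀ x y, c x = c y ↔ y ∈ c x := by
    intro x y
    constructor
    · intro h2
      rw [h2]
      exact hcx y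
    · intro h2
      exact huniq _ _ h2
  have hcg : ∀ (g : G) (x : X), c (g • x) = g • c x := by
    intro g x
    have h2 : g • x ∈ (g * r x) • B := by
      rw [mul_smul]
      exact Set.smul_mem_smul_set (hcx x)
    rw [← huniq _ _ h2, mul_smul]
  -- fibres
  let cc : X → Set.range c := fun x => ⟨c x, x, rfl⟩
  have hcc : ∀ x y, cc x = cc y ↔ c x = c y := fun x y => Subtype.ext_iff
  have hfib : ∀ s : Set.range c, Nat.card {x : X // cc x = s} = Nat.card B := by
    rintro ⟨_, y, rfl⟩
    have h2 : ∀ x, (cc x = cc y) ↔ x ∈ c y := by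
      intro x
      rw [hcc, ← hcy]
      exact eq_comm
    have h3 : Nat.card {x : X // cc x = cc y} = Nat.card {x : X // x ∈ c y} :=
      Nat.card_congr (Equiv.subtypeEquivRight h2)
    refine Eq.trans h3 ?_
    show Nat.card (r y • B : Set X) = Nat.card B
    exact Nat.card_congr (Equiv.Set.image _ B (MulAction.injective (r y))).symm
  have hfin : Finite (Set.range c) := inferInstance
  have eB : (B : Type _) ≃ Fin (Nat.card B) := Finite.equivFin _
  have ek : Set.range c ≃ Fin (Nat.card (Set.range c)) := Finite.equivFin _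
  have hf2 : ∀ s : Set.range c, Nonempty ({x : X // cc x = s} ≃ Fin (Nat.card B)) := by
    intro s
    rw [← hfib s]
    exact ⟨Finite.equivFin _⟩
  let e : X ≃ Fin (Nat.card (Set.range c)) × Fin (Nat.card B) :=
    ((Equiv.sigmaFiberEquiv cc).symm.trans (Equiv.sigmaCongrRight fun s => (hf2 s).some)).trans
        ((Equiv.sigmaEquivProd _ _).trans (Equiv.prodCongr ek (Equiv.refl _)))
  have he : ∀ x, (e x).1 = ek (cc x) := fun x => rfl
  refine ⟨_, _, e, ?_, ?_, ?_⟩
  · obtain ⟨z, hz⟩ := (Set.ne_univ_iff_exists_notMem B).1 hB2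
    have : Nontrivial (Set.range c) := by
      refine ⟨⟨⟨c b0, b0, rfl⟩, ⟨c z, z, rfl⟩, fun h2 => ?_⟩⟩
      have h3 : z ∈ c b0 := (hcy _ _).1 (Subtype.ext_iff.1 h2)
      have h4 : (1 : G) • B = c b0 := huniq 1 b0 (by rwa [one_smul])
      rw [one_smul] at h4
      rw [← h4] at h3
      exact hz h3
    exact Finite.one_lt_card
  · have : Nontrivial B := hB1.coe_sort
    exact Finite.one_lt_card
  · intro g x y
    rw [he, he, he, he, ek.apply_eq_iff_eq, ek.apply_eq_iff_eq, hcc, hcc, hcg, hcg]
    exact (MulAction.injective g).eq_iff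

/-- **S5733 for the alternating groups.** -/
theorem row_alt : ∃ c : ℝ, 0 < c ∧ ∀ n : ℕ, 5 ≤ n → RowB c (alternatingGroup (Fin n)) := by
  classical
  set C1 := 2 * Fintype.card (Fin 4 → Fin 4 → Bool) with hC1
  set C2 := 2 * Fintype.card (Fin 4 → Fin 4 → Bool × Bool) with hC2
  set C3 := 2 * Fintype.card (Fin 3 ⊕ Fin 3 → Fin 3 ⊕ Fin 3 → Bool) with hC3
  have hC1' : 0 < C1 := Nat.mul_pos (by norm_num) Fintype.card_pos
  have key : ∀ n : ℕ, 9 ≤ n → ∀ K : Subgroup (alternatingGroup (Fin n)), K ≠ ⊤ →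
      Nat.card (alternatingGroup (Fin n)) ≤ (C1 + C2 + C3) * nd K := by
    intro n hn K hK
    by_cases ht : ∀ a b : Fin n, ∃ x ∈ K, (x : Perm (Fin n)) a = b
    · set G := K.map (alternatingGroup (Fin n)).subtype with hG
      have htr : MulAction.IsPretransitive G (Fin n) := by
        refine ⟨fun a b => ?_⟩
        obtain ⟨x, hx, hxb⟩ := ht a b
        exact ⟨⟨x, Subgroup.mem_map.2 ⟨x, hx, rfl⟩⟩, hxb⟩
      by_cases hp : MulAction.IsPreprimitive G (Fin n)
      · have := alt_prim (by omega) hK hp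
        nlinarith [Nat.zero_le (nd K)]
      · have : Nonempty (Fin n) := ⟨⟨0, by omega⟩⟩
        obtain ⟨k, m, e, hk, hm, he⟩ := exists_blocks hp
        have h1 := alt_imprim hn e (by simpa using hk) (by simpa using hm)
        have h2 : K ≤ MulAction.stabilizer (alternatingGroup (Fin n)) {p : Fin n × Fin n | (e p.1).1 = (e p.2).1} := by
          intro x hx
          rw [MulAction.mem_stabilizer_iff]
          ext ⟨a, b⟩
          rw [Set.mem_smul_set_iff_inv_smul_mem]
          exact he ⟨(x : Perm (Fin n))⁻¹, Subgroup.mem_map.2 ⟨x⁻¹, K.inv_mem hx, rfl⟩⟩ a b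
        have h3 := nd_anti h2
        have h4 : C2 * nd (MulAction.stabilizer (alternatingGroup (Fin n))
            {p : Fin n × Fin n | (e p.1).1 = (e p.2).1}) ≤ C2 * nd K := Nat.mul_le_mul_left _ h3
        have h5 : C2 * nd K ≤ (C1 + C2 + C3) * nd K := Nat.mul_le_mul_right _ (by omega)
        exact h1.trans (h4.trans h5)
    · obtain ⟨s, hs, h0, h2⟩ := H663.AltD.exists_inv ht
      have hs0 : (s : Set (Fin n)).Nonempty := Finset.coe_nonempty.2 (Finset.card_pos.1 h0)
      have hs1 : (s : Set (Fin n)) ≠ Set.univ := by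
        intro h
        rw [Finset.coe_eq_univ] at h
        rw [h, Finset.card_univ, Fintype.card_fin] at h2
        omega
      have h1 := alt_intrans (by omega) hs0 hs1
      have h2 : K ≤ MulAction.stabilizer (alternatingGroup (Fin n)) (s : Set (Fin n)) := by
        intro x hx
        rw [MulAction.mem_stabilizer_iff]
        ext a
        rw [Set.mem_smul_set_iff_inv_smul_mem]
        exact hs x⁻¹ (K.inv_mem hx) a
      have h3 := nd_anti h2
      have h4 : C1 * nd (MulAction.stabilizer (alternatingGroup (Fin n)) (s : Set (Fin n))) ≤ C1 * nd K :=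
        Nat.mul_le_mul_left _ h3
      have h5 : C1 * nd K ≤ (C1 + C2 + C3) * nd K := Nat.mul_le_mul_right _ (by omega)
      exact h1.trans (h4.trans h5)
  have hCpos : (0 : ℝ) < ((C1 + C2 + C3 : ℕ) : ℝ) := by exact_mod_cast (by omega : 0 < C1 + C2 + C3)
  refine ⟨min (1 / ((C1 + C2 + C3 : ℕ) : ℝ)) (1 / (9 ! : ℝ)), lt_min (by positivity) (by positivity), ?_⟩
  intro n hn K hK
  have hc : (0 : ℝ) ≤ (Nat.card (alternatingGroup (Fin n)) : ℝ) := Nat.cast_nonneg _
  by_cases h9 : 9 ≤ n
  · refine (mul_le_mul_of_nonneg_right (min_le_left _ _) hc).trans ?_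
    rw [one_div_mul_eq_div, div_le_iff₀ hCpos]
    have h1 := key n h9 K hK.1
    have h2 : (Nat.card (alternatingGroup (Fin n)) : ℝ) ≤ ((C1 + C2 + C3 : ℕ) : ℝ) * nd K := by exact_mod_cast h1
    rwa [mul_comm]
  · refine (mul_le_mul_of_nonneg_right (min_le_right _ _) hc).trans ?_
    have h1 : (1 : ℝ) ≤ nd K := by exact_mod_cast one_le_nd hK.1
    refine le_trans ?_ h1
    rw [one_div_mul_eq_div, div_le_one (by positivity)]
    have h2 := H663.AltD.two_mul_card (n := n) (by omega)
    have h3 : n ! ≤ 9 ! := Nat.factorial_le (by omega)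
    exact_mod_cast (by omega : Nat.card (alternatingGroup (Fin n)) ≤ 9 !)

end Cfsg.Agent.H548.BS
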