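import Cfsg.Agent.H548.BS.Core

/-!
# S5733: extension of partial maps to permutations preserving colours / blocks, `swap_rank`
-/

set_option autoImplicit false

namespace Cfsg.Agent.H548.BS

open Equiv Equiv.Perm Cfsg.Agent.H851.Dg

/-- a partial injection preserving colours extends to a permutation preserving colours -/
theorem exists_perm_color {X β ι : Type*} [DecidableEq X] [Finite ι] (c : X → β) (u v : ι → X)
    (hc : ∀ i, c (u i) = c (v i)) (he : ∀ i j, u i = u j ↔ v i = v j) :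
    ∃ g : Perm X, (∀ x, c (g x) = c x) ∧ ∀ i, g (u i) = v i := by
  classical
  have := Fintype.ofFinite ι
  suffices H : ∀ s : Finset ι, ∃ g : Perm X, (∀ x, c (g x) = c x) ∧ ∀ i ∈ s, g (u i) = v i by
    obtain ⟨g, h1, h2⟩ := H Finset.univ
    exact ⟨g, h1, fun i => h2 i (Finset.mem_univ _)⟩
  intro s
  induction s using Finset.induction_on with
  | empty => exact ⟨1, fun _ => rfl, fun i hi => absurd hi (Finset.notMem_empty _)⟩
  | insert a s ha ih =>
    obtain ⟨g, h1, h2⟩ := ih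
    by_cases hj : ∃ j ∈ s, u a = u j
    · obtain ⟨j, hjs, hj⟩ := hj
      refine ⟨g, h1, fun i hi => ?_⟩
      rcases Finset.mem_insert.1 hi with rfl | hi
      · rw [hj, h2 j hjs]
        exact ((he _ _).1 hj).symm
      · exact h2 i hi
    · push Not at hj
      have hsw : ∀ z, c (swap (g (u a)) (v a) z) = c z := by
        intro z
        have h3 : c (g (u a)) = c (v a) := by rw [h1, hc]
        rw [swap_apply_def]
        split_ifs with h4 h5
        · rw [h4, h3]
        · rw [h5, h3]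
        · rfl
      refine ⟨swap (g (u a)) (v a) * g, fun x => ?_, fun i hi => ?_⟩
      · rw [Perm.mul_apply, hsw, h1]
      · rcases Finset.mem_insert.1 hi with rfl | hi
        · rw [Perm.mul_apply, swap_apply_left]
        · rw [Perm.mul_apply, h2 i hi]
          refine swap_apply_of_ne_of_ne ?_ ?_
          · rw [← h2 i hi]
            exact fun h => hj i hi (g.injective h).symm
          · intro h
            exact hj i hi ((he _ _).2 h.symm)

/-- block version -/
theorem exists_perm_block {β α ι : Type*} [DecidableEq β] [DecidableEq α] [Finite ι] (u v : ι → β × α)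
    (hb : ∀ i j, (u i).1 = (u j).1 ↔ (v i).1 = (v j).1) (he : ∀ i j, u i = u j ↔ v i = v j) :
    ∃ g : Perm (β × α), (∀ x y, (g x).1 = (g y).1 ↔ x.1 = y.1) ∧ ∀ i, g (u i) = v i := by
  obtain ⟨π, -, hπ⟩ := exists_perm_color (fun _ : β => ()) (fun i => (u i).1) (fun i => (v i).1) (fun _ => rfl) hb
  let Pp : Perm (β × α) := Equiv.prodCongr π (Equiv.refl α)
  have hPp : ∀ x, (Pp x).1 = π x.1 := fun x => rfl
  obtain ⟨g, hg1, hg2⟩ := exists_perm_color (fun x : β × α => x.1) (fun i => Pp (u i)) v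
    (fun i => by rw [hPp, hπ]) (fun i j => by rw [Pp.apply_eq_iff_eq, he])
  refine ⟨g * Pp, fun x y => ?_, fun i => ?_⟩
  · rw [Perm.mul_apply, Perm.mul_apply, hg1, hg1, hPp, hPp, π.apply_eq_iff_eq]
  · rw [Perm.mul_apply, hg2]

/-- the local rank lemma for the suborbit `{swap x y • ω}` -/
theorem swap_rank {X Ω P : Type*} [Fintype X] [DecidableEq X] [MulAction (Perm X) Ω] [Fintype P] (ω : Ω)
    (Γ : X → X → Prop) (hne : ∃ x y, Γ x y)
    (hinv : ∀ k : Perm X, k • ω = ω → ∀ x y, Γ x y → Γ (k x) (k y))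
    (h1 : ∀ x y, Γ x y → swap x y • ω ≠ ω)
    (h2 : ∀ F : Finset X, F.card ≤ 4 → ∃ p q, p ≠ q ∧ p ∉ F ∧ q ∉ F ∧ swap p q • ω = ω)
    (pat : (Fin 4 → X) → P)
    (h3 : ∀ u v : Fin 4 → X, Γ (u 0) (u 1) → Γ (u 2) (u 3) → Γ (v 0) (v 1) → Γ (v 2) (v 3) → pat u = pat v →
      ∃ g : Perm X, g • ω = ω ∧ ∀ i, g (u i) = v i) :
    Nat.card (alternatingGroup X) ≤
      2 * Fintype.card P * nd (MulAction.stabilizer (alternatingGroup X) ω) := by
  classical
  obtain ⟨x0, y0, hxy0⟩ := hne
  -- representatives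
  let Δ : Set Ω := {a | ∃ x y, Γ x y ∧ a = swap x y • ω}
  have hrep : ∀ a : Ω, ∃ p : X × X, Γ p.1 p.2 ∧ (a ∈ Δ → a = swap p.1 p.2 • ω) := by
    intro a
    by_cases ha : a ∈ Δ
    · obtain ⟨x, y, hxy, hxy'⟩ := ha
      exact ⟨(x, y), hxy, fun _ => hxy'⟩
    · exact ⟨(x0, y0), hxy0, fun h => absurd h ha⟩
  choose r hr1 hr2 using hrep
  let q : Ω → Ω → Fin 4 → X := fun a b => ![(r a).1, (r a).2, (r b).1, (r b).2]
  -- even adjustment
  have heven : ∀ (g : Perm X) (v : Fin 4 → X), g • ω = ω →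
      ∃ k : alternatingGroup X, (k : Perm X) • ω = ω ∧ ∀ i, (k : Perm X) (g⁻¹ (v i)) = v i := by
    intro g v hg
    rcases Int.units_eq_one_or (sign g) with hs | hs
    · exact ⟨⟨g, mem_alternatingGroup.2 hs⟩, hg, fun i => by rw [← Perm.mul_apply, mul_inv_cancel, Perm.one_apply]⟩
    · obtain ⟨a, b, hab, ha, hb, hω⟩ := h2 (Finset.univ.image v)
        (le_trans Finset.card_image_le (by rw [Finset.card_univ, Fintype.card_fin]))
      refine ⟨⟨swap a b * g, mem_alternatingGroup.2 (by rw [Perm.sign_mul, sign_swap hab, hs]; rfl)⟩, ?_, fun i => ?_⟩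
      · show (swap a b * g) • ω = ω
        rw [mul_smul, hg, hω]
      · show (swap a b * g) (g⁻¹ (v i)) = v i
        rw [Perm.mul_apply, ← Perm.mul_apply g, mul_inv_cancel, Perm.one_apply]
        refine swap_apply_of_ne_of_ne ?_ ?_
        · rintro rfl
          exact ha (Finset.mem_image_of_mem _ (Finset.mem_univ _))
        · rintro rfl
          exact hb (Finset.mem_image_of_mem _ (Finset.mem_univ _))
  have hmove : ∀ (k : Perm X), k • ω = ω → ∀ x y, k • swap x y • ω = swap (k x) (k y) • ω := by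
    intro k hk x y
    rw [Equiv.swap_apply_apply, mul_smul, mul_smul]
    have : k⁻¹ • ω = ω := by rw [inv_smul_eq_iff, hk]
    rw [this]
  refine local_rank (T := alternatingGroup X) ω Δ ⟨swap x0 y0 • ω, x0, y0, hxy0, rfl⟩ ?_ ?_ ?_
    (Fintype.card P) (fun a b => Fintype.equivFin P (pat (q a b))) ?_
  · rintro ⟨x, y, hxy, h⟩
    exact h1 x y hxy h.symm
  · rintro _ ⟨x, y, hxy, rfl⟩
    obtain ⟨a, b, hab, ha, hb, hω⟩ := h2 {x, y} (le_trans Finset.card_le_two (by norm_num))
    have hxy' : x ≠ y := by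
      rintro rfl
      apply h1 x x hxy
      rw [swap_self]
      exact one_smul _ _
    refine ⟨⟨swap x y * swap a b, mem_alternatingGroup.2 (by rw [Perm.sign_mul, sign_swap hab, sign_swap hxy']; rfl)⟩, ?_⟩
    show (swap x y * swap a b) • ω = swap x y • ω
    rw [mul_smul, hω]
  · rintro k hk _ ⟨x, y, hxy, rfl⟩
    have hk' : (k : Perm X) • ω = ω := hk
    exact ⟨k.1 x, k.1 y, hinv _ hk' _ _ hxy, hmove _ hk' x y⟩
  · intro a ha b hb a' ha' b' hb' hpat
    have hpat' := (Fintype.equivFin P).injective hpat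
    obtain ⟨g, hg1, hg2⟩ := h3 (q a b) (q a' b') (hr1 a) (hr1 b) (hr1 a') (hr1 b') hpat'
    obtain ⟨k, hk1, hk2⟩ := heven g (q a' b') hg1
    have hk3 : ∀ i, (k : Perm X) (q a b i) = q a' b' i := by
      intro i
      have h4 : g⁻¹ (q a' b' i) = q a b i := by rw [← hg2 i, ← Perm.mul_apply, inv_mul_cancel, Perm.one_apply]
      rw [← h4]
      exact hk2 i
    refine ⟨k, hk1, ?_, ?_⟩
    · rw [hr2 a ha]
      show (k : Perm X) • swap (r a).1 (r a).2 • ω = a'
      rw [hmove _ hk1, hr2 a' ha']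
      have h5 : (k : Perm X) (r a).1 = (r a').1 := hk3 0
      have h6 : (k : Perm X) (r a).2 = (r a').2 := hk3 1
      rw [h5, h6]
    · rw [hr2 b hb]
      show (k : Perm X) • swap (r b).1 (r b).2 • ω = b'
      rw [hmove _ hk1, hr2 b' hb']
      have h5 : (k : Perm X) (r b).1 = (r b').1 := hk3 2
      have h6 : (k : Perm X) (r b).2 = (r b').2 := hk3 3
      rw [h5, h6]

end Cfsg.Agent.H548.BS
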