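import Cfsg.Agent.H851.Dg.Defs

/-!
# S5733 (Boston-Shalev for simple groups): core lemmas

`nd K` (H851.Dg) is the number of elements of `T` without a conjugate in `K`.

* `two_fixed_le_nd` : the number of elements with at least two fixed points on `T ⧸ K` is at most `nd K`;
* `comm_bound` : elements whose centralizer is not contained in a conjugate of `K` containing them;
* `local_rank` : a suborbit `Δ` on which the stabiliser has at most `C` orbits on pairs gives `|T| ≤ 2 C nd`;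
* `sum_sets` : disjoint sets of elements without conjugates in `K`;
* `nd_comap` : passage to quotients.
-/

set_option autoImplicit false

namespace Cfsg.Agent.H548.BS

open Cfsg.Agent.H851.Dg

section coset

variable {T : Type*} [Group T] [Finite T]

/-- number of fixed points on the cosets of `K` -/
noncomputable def fx (K : Subgroup T) (x : T) : ℕ := Nat.card (MulAction.fixedBy (T ⧸ K) x)

theorem mem_fixedBy_mk {K : Subgroup T} (x g : T) :
    (QuotientGroup.mk g : T ⧸ K) ∈ MulAction.fixedBy (T ⧸ K) x ↔ g⁻¹ * x * g ∈ K := by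
  rw [MulAction.mem_fixedBy, MulAction.Quotient.smul_mk, smul_eq_mul, QuotientGroup.eq, mul_inv_rev]
  rw [← K.inv_mem_iff]
  have : (g⁻¹ * x⁻¹ * g)⁻¹ = g⁻¹ * x * g := by group
  rw [this]

theorem fx_eq_zero_iff {K : Subgroup T} (x : T) : fx K x = 0 ↔ ∀ g : T, g * x * g⁻¹ ∉ K := by
  unfold fx
  rw [Nat.card_eq_zero, or_iff_left (not_infinite_iff_finite.2 inferInstance)]
  constructor
  · intro h g hg
    exact h.false ⟨(QuotientGroup.mk g⁻¹ : T ⧸ K), (mem_fixedBy_mk x g⁻¹).2 (by rwa [inv_inv])⟩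
  · intro h
    refine ⟨fun ⟨c, hc⟩ => ?_⟩
    obtain ⟨g, rfl⟩ := QuotientGroup.mk_surjective c
    exact h g⁻¹ (by rw [inv_inv]; exact (mem_fixedBy_mk x g).1 hc)

theorem sum_fx (K : Subgroup T) [Fintype T] : ∑ x : T, fx K x = Nat.card T := by
  classical
  have := Fintype.ofFinite (T ⧸ K)
  have := Fintype.ofFinite (MulAction.orbitRel.Quotient T (T ⧸ K))
  have h := MulAction.sum_card_fixedBy_eq_card_orbits_mul_card_group T (T ⧸ K)
  have h2 : Fintype.card (MulAction.orbitRel.Quotient T (T ⧸ K)) = 1 := by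
    rw [Fintype.card_eq_one_iff_nonempty_unique]
    have := MulAction.pretransitive_iff_unique_quotient_of_nonempty T (T ⧸ K)
    exact this.1 inferInstance
  rw [h2, one_mul] at h
  rw [Nat.card_eq_fintype_card, ← h]
  refine Finset.sum_congr rfl fun x _ => ?_
  unfold fx
  rw [Nat.card_eq_fintype_card]

theorem nd_eq (K : Subgroup T) : nd K = Nat.card {x : T // fx K x = 0} := by
  unfold nd
  exact Nat.card_congr (Equiv.subtypeEquivRight fun x => (fx_eq_zero_iff x).symm)

open Classical in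
/-- `∑ (f - 1)^+ = nd` -/
theorem sum_pred (K : Subgroup T) [Fintype T] : ∑ x : T, (fx K x - 1) = nd K := by
  have h1 := sum_fx K
  have h2 : ∑ x : T, (fx K x - 1) + Nat.card T = ∑ x : T, fx K x + nd K := by
    rw [nd_eq, Nat.card_eq_fintype_card (α := T), Nat.card_eq_fintype_card, Fintype.card_subtype,
      Finset.card_filter, ← Finset.sum_add_distrib, Fintype.card_eq_sum_ones, ← Finset.sum_add_distrib]
    refine Finset.sum_congr rfl fun x _ => ?_
    split_ifs with h <;> omega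
  omega

open Classical in
/-- **Size bias.** -/
theorem sum_two_le (K : Subgroup T) [Fintype T] :
    ∑ x : T, (if 2 ≤ fx K x then fx K x else 0) ≤ 2 * nd K := by
  rw [← sum_pred K, Finset.mul_sum]
  refine Finset.sum_le_sum fun x _ => ?_
  split_ifs with h <;> omega

theorem two_fixed_le_nd (K : Subgroup T) : Nat.card {x : T // 2 ≤ fx K x} ≤ nd K := by
  classical
  have := Fintype.ofFinite T
  rw [← sum_pred K, Nat.card_eq_fintype_card, Fintype.card_subtype, Finset.card_filter]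
  refine Finset.sum_le_sum fun x _ => ?_
  split_ifs with h <;> omega

theorem ne_one_le (K : Subgroup T) : Nat.card {x : T // fx K x ≠ 1} ≤ 2 * nd K := by
  classical
  have := Fintype.ofFinite T
  have h1 := two_fixed_le_nd K
  have h2 := nd_eq K
  have h3 : Nat.card {x : T // fx K x ≠ 1} ≤ Nat.card {x : T // fx K x = 0} + Nat.card {x : T // 2 ≤ fx K x} := by
    simp only [Nat.card_eq_fintype_card, Fintype.card_subtype]
    refine le_trans (Finset.card_le_card ?_) (Finset.card_union_le _ _)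
    intro x hx
    simp only [Finset.mem_union, Finset.mem_filter, Finset.mem_univ, true_and] at hx ⊢
    omega
  omega

/-- If every `x ∈ S` lying in a conjugate of `K` commutes with an element outside this conjugate, then
`|S| ≤ 2 nd K`. -/
theorem comm_bound {K : Subgroup T} (S : Set T)
    (h : ∀ x ∈ S, ∀ g : T, g * x * g⁻¹ ∈ K → ∃ c : T, c * x = x * c ∧ g * c * g⁻¹ ∉ K) :
    Nat.card S ≤ 2 * nd K := by
  refine le_trans ?_ (ne_one_le K)
  refine Nat.card_le_card_of_injective (fun x : S => (⟨x.1, ?_⟩ : {x : T // fx K x ≠ 1}))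
    fun a b hab => Subtype.ext (Subtype.mk.inj hab)
  intro h1
  unfold fx at h1
  rw [Nat.card_eq_one_iff_unique] at h1
  obtain ⟨hs, ⟨⟨a, ha⟩⟩⟩ := h1
  obtain ⟨g, rfl⟩ := QuotientGroup.mk_surjective a
  have hg := (mem_fixedBy_mk x.1 g).1 ha
  obtain ⟨c, hc, hcK⟩ := h x.1 x.2 g⁻¹ (by rwa [inv_inv])
  have h2 : (QuotientGroup.mk (c * g) : T ⧸ K) ∈ MulAction.fixedBy (T ⧸ K) x.1 := by
    rw [mem_fixedBy_mk]
    have : (c * g)⁻¹ * x.1 * (c * g) = g⁻¹ * x.1 * g := by
      rw [mul_inv_rev]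
      calc g⁻¹ * c⁻¹ * x.1 * (c * g) = g⁻¹ * (c⁻¹ * (x.1 * c)) * g := by group
        _ = g⁻¹ * (c⁻¹ * (c * x.1)) * g := by rw [hc]
        _ = g⁻¹ * x.1 * g := by group
    rw [this]
    exact hg
  have h3 := congrArg Subtype.val (hs.elim ⟨_, ha⟩ ⟨_, h2⟩)
  rw [QuotientGroup.eq] at h3
  apply hcK
  rw [inv_inv]
  have : g⁻¹ * c * g = g⁻¹ * (c * g) := by group
  rw [this]
  exact h3

/-- elements of `K` with two fixed points -/
theorem index_mul_two_le (K : Subgroup T) :
    K.index * Nat.card {k : K // 2 ≤ fx K (k : T)} ≤ 2 * nd K := by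
  classical
  have := Fintype.ofFinite T
  refine le_trans ?_ (sum_two_le K)
  -- count pairs (x, c) with x c = c, 2 ≤ fx x
  have h1 : ∑ x : T, (if 2 ≤ fx K x then fx K x else 0) =
      Nat.card {p : T × (T ⧸ K) // 2 ≤ fx K p.1 ∧ p.1 • p.2 = p.2} := by
    have e : {p : T × (T ⧸ K) // 2 ≤ fx K p.1 ∧ p.1 • p.2 = p.2} ≃
        Σ x : T, {c : T ⧸ K // 2 ≤ fx K x ∧ x • c = c} :=
      { toFun := fun p => ⟨p.1.1, p.1.2, p.2⟩
        invFun := fun s => ⟨(s.1, s.2.1), s.2.2⟩
        left_inv := fun _ => rfl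
        right_inv := fun _ => rfl }
    rw [Nat.card_congr e, Nat.card_sigma]
    refine Finset.sum_congr rfl fun x _ => ?_
    split_ifs with h
    · refine Nat.card_congr (Equiv.subtypeEquivRight fun c => ?_)
      rw [MulAction.mem_fixedBy]
      exact ⟨fun hc => ⟨h, hc⟩, fun hc => hc.2⟩
    · symm
      rw [Nat.card_eq_zero]
      exact Or.inl ⟨fun c => h c.2.1⟩
  rw [h1]
  have hindex : K.index = Nat.card (T ⧸ K) := rfl
  rw [hindex, ← Nat.card_prod]
  have fx_conj : ∀ g x : T, fx K (g * x * g⁻¹) = fx K x := by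
    intro g x
    unfold fx
    refine Nat.card_congr
      { toFun := fun c => ⟨g⁻¹ • (c : T ⧸ K), ?_⟩
        invFun := fun c => ⟨g • (c : T ⧸ K), ?_⟩
        left_inv := fun c => by simp
        right_inv := fun c => by simp }
    · have h := c.2
      rw [MulAction.mem_fixedBy] at h ⊢
      calc x • g⁻¹ • (c : T ⧸ K) = g⁻¹ • (g * x * g⁻¹) • (c : T ⧸ K) := by
            simp only [smul_smul]; congr 1; group
        _ = g⁻¹ • (c : T ⧸ K) := by rw [h]
    · have h := c.2
      rw [MulAction.mem_fixedBy] at h ⊢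
      calc (g * x * g⁻¹) • g • (c : T ⧸ K) = g • x • (c : T ⧸ K) := by
            simp only [smul_smul]; congr 1; group
        _ = g • (c : T ⧸ K) := by rw [h]
  refine Nat.card_le_card_of_injective
    (fun p : (T ⧸ K) × {k : K // 2 ≤ fx K (k : T)} =>
      (⟨(p.1.out * (p.2.1 : T) * p.1.out⁻¹, p.1), ?_, ?_⟩ :
        {p : T × (T ⧸ K) // 2 ≤ fx K p.1 ∧ p.1 • p.2 = p.2})) ?_
  · show 2 ≤ fx K (p.1.out * (p.2.1 : T) * p.1.out⁻¹)
    rw [fx_conj]
    exact p.2.2
  · show (p.1.out * (p.2.1 : T) * p.1.out⁻¹) • p.1 = p.1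
    have h2 : p.1 = (QuotientGroup.mk p.1.out : T ⧸ K) := (QuotientGroup.out_eq' p.1).symm
    have h3 := (mem_fixedBy_mk (K := K) (p.1.out * (p.2.1 : T) * p.1.out⁻¹) p.1.out).2 (by
      have : p.1.out⁻¹ * (p.1.out * (p.2.1 : T) * p.1.out⁻¹) * p.1.out = (p.2.1 : T) := by group
      rw [this]
      exact p.2.1.2)
    rw [MulAction.mem_fixedBy] at h3
    rw [QuotientGroup.out_eq' p.1] at h3
    exact h3
  · intro p r hpr
    have h2 := Subtype.mk.inj hpr
    have h3 : p.1 = r.1 := (Prod.mk.inj h2).2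
    have h4 : p.1.out * (p.2.1 : T) * p.1.out⁻¹ = r.1.out * (r.2.1 : T) * r.1.out⁻¹ := (Prod.mk.inj h2).1
    rw [h3] at h4
    have h5 : (p.2.1 : T) = (r.2.1 : T) := mul_left_cancel (mul_right_cancel h4)
    refine Prod.ext h3 (Subtype.ext (Subtype.ext h5))

end coset

section second

/-- second moment: a finite group `K` acting on a finite nonempty set `Δ` with at most `C` orbits on `Δ × Δ`. -/
theorem second_moment {K : Type*} [Group K] [Finite K] {Δ : Type*} [MulAction K Δ] [Finite Δ] [Nonempty Δ]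
    (C : ℕ) (τ : Δ → Δ → Fin C)
    (hτ : ∀ a b a' b' : Δ, τ a b = τ a' b' → ∃ k : K, k • a = a' ∧ k • b = b') :
    Nat.card K ≤ C * Nat.card {k : K // ∃ a : Δ, k • a = a} := by
  classical
  have := Fintype.ofFinite K
  have := Fintype.ofFinite Δ
  let Y : K → ℕ := fun k => Fintype.card (MulAction.fixedBy Δ k)
  have h1 : Nat.card K ≤ ∑ k : K, Y k := by
    have h := MulAction.sum_card_fixedBy_eq_card_orbits_mul_card_group K Δ
    rw [h, Nat.card_eq_fintype_card]
    refine Nat.le_mul_of_pos_left _ ?_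
    rw [Fintype.card_pos_iff]
    exact ⟨Quotient.mk _ (Classical.arbitrary Δ)⟩
  have h2 : ∑ k : K, Y k ^ 2 ≤ C * Nat.card K := by
    have h := MulAction.sum_card_fixedBy_eq_card_orbits_mul_card_group K (Δ × Δ)
    have h3 : ∑ k : K, Y k ^ 2 = ∑ k : K, Fintype.card (MulAction.fixedBy (Δ × Δ) k) := by
      refine Finset.sum_congr rfl fun k _ => ?_
      rw [pow_two, ← Fintype.card_prod]
      refine Fintype.card_congr
        { toFun := fun p => ⟨(p.1.1, p.2.1), by
            rw [MulAction.mem_fixedBy, Prod.smul_mk, (MulAction.mem_fixedBy.1 p.1.2),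
              (MulAction.mem_fixedBy.1 p.2.2)]⟩
          invFun := fun p => (⟨p.1.1, MulAction.mem_fixedBy.2 (congrArg Prod.fst (MulAction.mem_fixedBy.1 p.2))⟩,
            ⟨p.1.2, MulAction.mem_fixedBy.2 (congrArg Prod.snd (MulAction.mem_fixedBy.1 p.2))⟩)
          left_inv := fun p => rfl
          right_inv := fun p => rfl }
    rw [h3, h, Nat.card_eq_fintype_card]
    refine Nat.mul_le_mul_right _ ?_
    have h4 : Function.Injective (fun q : MulAction.orbitRel.Quotient K (Δ × Δ) => τ q.out.1 q.out.2) := by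
      intro q r hqr
      obtain ⟨k, hk1, hk2⟩ := hτ _ _ _ _ hqr
      rw [← Quotient.out_eq q, ← Quotient.out_eq r]
      symm
      refine Quotient.sound ?_
      exact MulAction.orbitRel_apply.2 ⟨k, Prod.ext hk1 hk2⟩
    have h5 := Fintype.card_le_of_injective _ h4
    rwa [Fintype.card_fin] at h5
  -- Cauchy-Schwarz
  let S : Finset K := Finset.univ.filter fun k => ∃ a : Δ, k • a = a
  have h3 : ∑ k : K, Y k = ∑ k ∈ S, Y k := by
    symm
    refine Finset.sum_subset (Finset.subset_univ _) fun k _ hk => ?_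
    have hk' : ¬ ∃ a : Δ, k • a = a := fun h => hk (Finset.mem_filter.2 ⟨Finset.mem_univ _, h⟩)
    show Fintype.card (MulAction.fixedBy Δ k) = 0
    rw [Fintype.card_eq_zero_iff]
    exact ⟨fun a => hk' ⟨a.1, a.2⟩⟩
  have h4 : (∑ k ∈ S, Y k) ^ 2 ≤ S.card * ∑ k ∈ S, Y k ^ 2 := sq_sum_le_card_mul_sum_sq
  have h5 : ∑ k ∈ S, Y k ^ 2 ≤ ∑ k : K, Y k ^ 2 :=
    Finset.sum_le_sum_of_subset (Finset.subset_univ _)
  have h6 : Nat.card K ^ 2 ≤ S.card * (C * Nat.card K) := by
    calc Nat.card K ^ 2 ≤ (∑ k ∈ S, Y k) ^ 2 := by rw [← h3]; exact Nat.pow_le_pow_left h1 2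
      _ ≤ S.card * ∑ k ∈ S, Y k ^ 2 := h4
      _ ≤ S.card * (C * Nat.card K) := Nat.mul_le_mul_left _ (h5.trans h2)
  have h7 : S.card = Nat.card {k : K // ∃ a : Δ, k • a = a} := by
    rw [Nat.card_eq_fintype_card, Fintype.card_subtype]
  have h8 : 0 < Nat.card K := Nat.card_pos
  rw [← h7]
  have h9 : Nat.card K * Nat.card K ≤ (C * S.card) * Nat.card K := by
    calc Nat.card K * Nat.card K = Nat.card K ^ 2 := (pow_two _).symm
      _ ≤ S.card * (C * Nat.card K) := h6
      _ = (C * S.card) * Nat.card K := by ring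
  exact Nat.le_of_mul_le_mul_right h9 h8

end second

section local_rank

variable {T : Type*} [Group T] [Finite T] {Ω : Type*} [MulAction T Ω]

/-- **Local rank lemma.** `Δ` is a non-empty set of points of the orbit of `ω`, different from `ω`, invariant under
the stabiliser of `ω`, which has at most `C` orbits on `Δ × Δ`. Then `|T| ≤ 2 C nd`. -/
theorem local_rank (ω : Ω) (Δ : Set Ω) (hΔ : Δ.Nonempty) (hω : ω ∉ Δ) (horb : Δ ⊆ MulAction.orbit T ω)
    (hinv : ∀ k ∈ MulAction.stabilizer T ω, ∀ a ∈ Δ, k • a ∈ Δ) (C : ℕ) (τ : Ω → Ω → Fin C)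
    (hτ : ∀ a ∈ Δ, ∀ b ∈ Δ, ∀ a' ∈ Δ, ∀ b' ∈ Δ, τ a b = τ a' b' →
      ∃ k ∈ MulAction.stabilizer T ω, k • a = a' ∧ k • b = b') :
    Nat.card T ≤ 2 * C * nd (MulAction.stabilizer T ω) := by
  classical
  set K := MulAction.stabilizer T ω with hK
  -- `K` acts on `Δ`
  let act : MulAction K Δ :=
    { smul := fun k a => ⟨(k : T) • (a : Ω), hinv k.1 k.2 a.1 a.2⟩
      one_smul := fun a => Subtype.ext (one_smul T (a : Ω))
      mul_smul := fun k l a => Subtype.ext (mul_smul (k : T) (l : T) (a : Ω)) }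
  have hsm : ∀ (k : K) (a : Δ), ((k • a : Δ) : Ω) = (k : T) • (a : Ω) := fun _ _ => rfl
  have hfinorb : (MulAction.orbit T ω).Finite := Set.finite_range _
  have : Finite Δ := (hfinorb.subset horb).to_subtype
  have : Nonempty Δ := hΔ.to_subtype
  have h1 := second_moment (K := K) (Δ := Δ) C (fun a b => τ a b) (by
    intro a b a' b' h
    obtain ⟨k, hk, hk1, hk2⟩ := hτ a a.2 b b.2 a' a'.2 b' b'.2 h
    exact ⟨⟨k, hk⟩, Subtype.ext hk1, Subtype.ext hk2⟩)
  have h2 : Nat.card {k : K // ∃ a : Δ, k • a = a} ≤ Nat.card {k : K // 2 ≤ fx K (k : T)} := by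
    refine Nat.card_le_card_of_injective (fun k : {k : K // ∃ a : Δ, k • a = a} =>
      (⟨k.1, ?_⟩ : {k : K // 2 ≤ fx K (k : T)})) fun a b hab => Subtype.ext (Subtype.mk.inj hab)
    obtain ⟨a, ha⟩ := k.2
    obtain ⟨g, hg⟩ := horb a.2
    have hg' : g • ω = a := hg
    have h3 : (QuotientGroup.mk g : T ⧸ K) ∈ MulAction.fixedBy (T ⧸ K) (k.1 : T) := by
      rw [mem_fixedBy_mk]
      show g⁻¹ * (k.1 : T) * g ∈ MulAction.stabilizer T ω
      rw [MulAction.mem_stabilizer_iff, mul_smul, mul_smul, hg']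
      have h4 : ((k.1 : T)) • (a : Ω) = a := by rw [← hsm, ha]
      rw [h4, ← hg', inv_smul_smul]
    have h4 : (QuotientGroup.mk 1 : T ⧸ K) ∈ MulAction.fixedBy (T ⧸ K) (k.1 : T) := by
      rw [mem_fixedBy_mk, inv_one, one_mul, mul_one]
      exact k.1.2
    have h5 : (QuotientGroup.mk g : T ⧸ K) ≠ (QuotientGroup.mk 1 : T ⧸ K) := by
      intro h
      rw [QuotientGroup.eq, mul_one] at h
      have h6 : g ∈ K := K.inv_mem_iff.1 h
      have h7 : g • ω = ω := MulAction.mem_stabilizer_iff.1 h6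
      rw [hg'] at h7
      exact hω (h7 ▸ a.2)
    unfold fx
    have : Nontrivial (MulAction.fixedBy (T ⧸ K) (k.1 : T)) := ⟨⟨⟨_, h3⟩, ⟨_, h4⟩, fun h => h5 (Subtype.mk.inj h)⟩⟩
    exact Finite.one_lt_card
  have h3 := index_mul_two_le K
  calc Nat.card T = K.index * Nat.card K := K.index_mul_card.symm
    _ ≤ K.index * (C * Nat.card {k : K // 2 ≤ fx K (k : T)}) :=
        Nat.mul_le_mul_left _ (h1.trans (Nat.mul_le_mul_left _ h2))
    _ = C * (K.index * Nat.card {k : K // 2 ≤ fx K (k : T)}) := by ring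
    _ ≤ C * (2 * nd K) := Nat.mul_le_mul_left _ h3
    _ = 2 * C * nd K := by ring

/-- direct form: a proportion `1 / C` of the elements of `K` has a second fixed point. -/
theorem of_proportion (K : Subgroup T) (C : ℕ)
    (h : Nat.card K ≤ C * Nat.card {k : K // ∃ g : T, g ∉ K ∧ g⁻¹ * (k : T) * g ∈ K}) :
    Nat.card T ≤ 2 * C * nd K := by
  have h2 : Nat.card {k : K // ∃ g : T, g ∉ K ∧ g⁻¹ * (k : T) * g ∈ K} ≤ Nat.card {k : K // 2 ≤ fx K (k : T)} := by
    refine Nat.card_le_card_of_injective (fun k : {k : K // ∃ g : T, g ∉ K ∧ g⁻¹ * (k : T) * g ∈ K} =>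
      (⟨k.1, ?_⟩ : {k : K // 2 ≤ fx K (k : T)})) fun a b hab => Subtype.ext (Subtype.mk.inj hab)
    obtain ⟨g, hg, hk⟩ := k.2
    have h3 := (mem_fixedBy_mk (K := K) (k.1 : T) g).2 hk
    have h4 : (QuotientGroup.mk 1 : T ⧸ K) ∈ MulAction.fixedBy (T ⧸ K) (k.1 : T) := by
      rw [mem_fixedBy_mk, inv_one, one_mul, mul_one]
      exact k.1.2
    have h5 : (QuotientGroup.mk g : T ⧸ K) ≠ (QuotientGroup.mk 1 : T ⧸ K) := by
      intro h
      rw [QuotientGroup.eq, mul_one] at h
      exact hg (K.inv_mem_iff.1 h)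
    unfold fx
    have : Nontrivial (MulAction.fixedBy (T ⧸ K) (k.1 : T)) := ⟨⟨⟨_, h3⟩, ⟨_, h4⟩, fun h => h5 (Subtype.mk.inj h)⟩⟩
    exact Finite.one_lt_card
  have h3 := index_mul_two_le K
  calc Nat.card T = K.index * Nat.card K := K.index_mul_card.symm
    _ ≤ K.index * (C * Nat.card {k : K // 2 ≤ fx K (k : T)}) :=
        Nat.mul_le_mul_left _ (h.trans (Nat.mul_le_mul_left _ h2))
    _ = C * (K.index * Nat.card {k : K // 2 ≤ fx K (k : T)}) := by ring
    _ ≤ C * (2 * nd K) := Nat.mul_le_mul_left _ h3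
    _ = 2 * C * nd K := by ring

end local_rank

section misc

variable {T : Type*} [Group T] [Finite T]

/-- disjoint sets of elements without conjugates in `K`, each of share at least `1 / N` -/
theorem sum_sets {K : Subgroup T} {ι : Type*} (I : Finset ι) (S : ι → Set T) (N : ℕ)
    (hdis : ∀ i ∈ I, ∀ j ∈ I, i ≠ j → Disjoint (S i) (S j))
    (hS : ∀ i ∈ I, Nat.card T ≤ N * Nat.card (S i))
    (hK : ∀ i ∈ I, ∀ x ∈ S i, ∀ g : T, g * x * g⁻¹ ∉ K) : I.card * Nat.card T ≤ N * nd K := by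
  classical
  have := Fintype.ofFinite T
  have h1 : ∑ i ∈ I, Nat.card (S i) ≤ nd K := by
    have h2 : ∑ i ∈ I, Nat.card (S i) = (I.biUnion fun i => (S i).toFinset).card := by
      rw [Finset.card_biUnion]
      · exact Finset.sum_congr rfl fun i _ => Nat.card_eq_card_toFinset _
      · intro i hi j hj hij
        exact Set.disjoint_toFinset.2 (hdis i hi j hj hij)
    rw [h2, ← Nat.card_eq_finsetCard]
    refine Nat.card_le_card_of_injective
      (fun x : {x // x ∈ I.biUnion fun i => (S i).toFinset} => (⟨x.1, ?_⟩ : {x : T // ∀ g : T, g * x * g⁻¹ ∉ K}))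
      fun a b hab => Subtype.ext (Subtype.mk.inj hab)
    obtain ⟨i, hi, hx⟩ := Finset.mem_biUnion.1 x.2
    exact hK i hi x.1 (Set.mem_toFinset.1 hx)
  calc I.card * Nat.card T = ∑ _i ∈ I, Nat.card T := by rw [Finset.sum_const, smul_eq_mul]
    _ ≤ ∑ i ∈ I, N * Nat.card (S i) := Finset.sum_le_sum hS
    _ = N * ∑ i ∈ I, Nat.card (S i) := (Finset.mul_sum _ _ _).symm
    _ ≤ N * nd K := Nat.mul_le_mul_left _ h1

/-- quotients -/
theorem nd_comap {S : Type*} [Group S] [Finite S] (π : S →* T) (hπ : Function.Surjective π) (K : Subgroup T) :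
    nd (K.comap π) * Nat.card T = nd K * Nat.card S := by
  have e : {x : S // ∀ g : S, g * x * g⁻¹ ∉ K.comap π} ≃
      Σ y : {y : T // ∀ g : T, g * y * g⁻¹ ∉ K}, {x : S // π x = y.1} := by
    refine Equiv.ofBijective (fun x => ⟨⟨π x.1, fun g hg => ?_⟩, x.1, rfl⟩) ⟨?_, ?_⟩
    · obtain ⟨h, rfl⟩ := hπ g
      exact x.2 h (by rw [Subgroup.mem_comap, map_mul, map_mul, map_inv]; exact hg)
    · intro x y hxy
      have h1 : π x.1 = π y.1 := congrArg (fun p => (p.1.1 : T)) hxy
      have h2 : x.1 = y.1 := congrArg (fun p => (p.2.1 : S)) hxy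
      exact Subtype.ext h2
    · rintro ⟨⟨y, hy⟩, ⟨x, hx⟩⟩
      have hx' : π x = y := hx
      refine ⟨⟨x, fun g hg => ?_⟩, ?_⟩
      · rw [Subgroup.mem_comap, map_mul, map_mul, map_inv, hx'] at hg
        exact hy _ hg
      · cases hx'
        rfl
  have hfib : ∀ y : T, Nat.card {x : S // π x = y} = Nat.card π.ker := by
    intro y
    obtain ⟨s, rfl⟩ := hπ y
    refine Nat.card_congr
      { toFun := fun x => ⟨x.1 * s⁻¹, by rw [MonoidHom.mem_ker, map_mul, map_inv, x.2, mul_inv_cancel]⟩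
        invFun := fun x => ⟨x.1 * s, by rw [map_mul, MonoidHom.mem_ker.1 x.2, one_mul]⟩
        left_inv := fun x => by simp
        right_inv := fun x => by simp }
  have h1 : nd (K.comap π) = nd K * Nat.card π.ker := by
    have := Fintype.ofFinite {y : T // ∀ g : T, g * y * g⁻¹ ∉ K}
    unfold nd
    rw [Nat.card_congr e, Nat.card_sigma, Finset.sum_congr rfl (fun y _ => hfib y.1), Finset.sum_const, smul_eq_mul,
      Finset.card_univ, Nat.card_eq_fintype_card (α := {y : T // ∀ g : T, g * y * g⁻¹ ∉ K})]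
  have h2 : Nat.card T * Nat.card π.ker = Nat.card S := by
    have h3 := Subgroup.card_eq_card_quotient_mul_card_subgroup π.ker
    rw [h3, Nat.card_congr (QuotientGroup.quotientKerEquivOfSurjective π hπ).toEquiv]
  rw [h1, ← h2]
  ring

/-- a lower bound for `nd` upstairs gives the same lower bound downstairs -/
theorem of_comap {S : Type*} [Group S] [Finite S] (π : S →* T) (hπ : Function.Surjective π) (K : Subgroup T)
    {c : ℝ} (h : c * (Nat.card S : ℝ) ≤ nd (K.comap π)) : c * (Nat.card T : ℝ) ≤ nd K := by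
  have h1 := nd_comap π hπ K
  have h2 : (nd (K.comap π) : ℝ) * Nat.card T = nd K * Nat.card S := by exact_mod_cast h1
  have h3 : (0 : ℝ) < Nat.card S := by exact_mod_cast Nat.card_pos
  have h4 : (0 : ℝ) ≤ Nat.card T := Nat.cast_nonneg _
  have h5 : c * (Nat.card T : ℝ) * Nat.card S ≤ nd K * Nat.card S := by
    calc c * (Nat.card T : ℝ) * Nat.card S = c * (Nat.card S : ℝ) * Nat.card T := by ring
      _ ≤ nd (K.comap π) * Nat.card T := mul_le_mul_of_nonneg_right h h4
      _ = nd K * Nat.card S := h2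
  exact le_of_mul_le_mul_right h5 h3

end misc

end Cfsg.Agent.H548.BS
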