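import Cfsg.Agent.H548.BS.Fin2
import Cfsg.Agent.H447.Bs.OMinus
import Cfsg.Agent.H39.Bs.Plus
import Cfsg.Agent.H59.Bs.CountO

/-!
# S5733: the orthogonal row
-/

set_option autoImplicit false

namespace Cfsg.Agent.H548.BS

open Module Cfsg.Agent.H851.Dg Cfsg.Agent.H847.Bs
open QuadraticMap Cfsg.Agent.LieClassical.OrthCore

theorem oMinus : H59.Bs.OMinus := fun F V _ _ _ _ _ Q hQ j hj hd hp => H447.Bs.o_minus hQ hp hj hd

theorem oPlus : H59.Bs.OPlus := fun F V _ _ _ _ _ Q hQ j hj hd hp => H39.Bs.o_plus Q hQ j hj hd hp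

theorem s12 : S12 := H59.Bs.s12_of oMinus oPlus

theorem countMinus : H380.Bs.CountMinus := by
  intro F V _ _ _ _ _ Q hQ hp j hj hd
  have h := oMinus F V Q hQ j hj hd hp
  rwa [H765.Bs.iso_frmQ] at h

theorem countAdj : H380.Bs.CountAdj := by
  intro F V _ _ _ _ _ Q hQ hp h2 j hj hd
  have h := H39.Bs.o_adj Q hQ j hj hd hp h2
  rwa [H765.Bs.iso_frmQ] at h

theorem plus16 : H765.Bs.OPlus 16 (1 / 256) := by
  intro F V _ _ _ _ _ Q hQ hd hp
  have h := oPlus F V Q hQ 16 (by norm_num) hd hp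
  rw [H765.Bs.iso_frmQ] at h
  have h1 := H42.Bs.ar_ge (j := 16) le_rfl
  refine le_trans (mul_le_mul_of_nonneg_right ?_ (Nat.cast_nonneg _)) h
  have h2 : (2 * ((16 : ℕ) : ℝ)) = 32 := by norm_num
  rw [h2]
  linarith

theorem adj16 : H765.Bs.OAdj 16 (1 / 256) := by
  intro F V _ _ _ _ _ Q hQ hd hp h2
  obtain ⟨h3, h4⟩ := countAdj F V Q hQ hp h2 16 (by norm_num) hd
  have h5 : (Nat.card (O Q) : ℝ) ≤ 256 * (Nat.card {x : V ≃ₗ[F] V // x ∈ (frmQ Q).Bp ∧ x ∈ E Q} : ℝ) := by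
    exact_mod_cast h3
  have h6 : (Nat.card (O Q) : ℝ) ≤
      256 * (Nat.card {x : V ≃ₗ[F] V // x ∈ (frmQ Q).Bp ∧ x ∈ slV F V ∧ x ∉ E Q} : ℝ) := by
    exact_mod_cast h4
  exact ⟨by linarith, by linarith⟩

theorem quadMinus : H42.Bs.QuadMinus.{0, 0} := by
  refine ⟨16, ?_⟩
  intro F V _ _ _ _ _ Q j hQ hp hd hj
  have h1 := oMinus F V Q hQ j (by omega) hd hp
  have h2 := H42.Bs.le_of_ar (m := 2 * (j : ℝ)) hj (by
    have : (0 : ℝ) < j := by exact_mod_cast (by omega : 0 < j)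
    linarith) h1
  have h3 : (Nat.card (frmQ Q).Iso : ℝ) ≤ ((4 * j * Nat.card {x // x ∈ (frmQ Q).Bm ∧ x ∈ nQ Q} : ℕ) : ℝ) := by
    push_cast
    linarith
  have h4 : Nat.card (frmQ Q).Iso ≤ 4 * j * Nat.card {x // x ∈ (frmQ Q).Bm ∧ x ∈ nQ Q} := by exact_mod_cast h3
  refine h4.trans (Nat.mul_le_mul_left _ ?_)
  have hV : Finite V := Module.finite_of_finite F
  have : Finite (V ≃ₗ[F] V) := Finite.of_injective (fun g : V ≃ₗ[F] V => (g : V → V)) DFunLike.coe_injective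
  exact Nat.card_le_card_of_injective (fun x : {x // x ∈ (frmQ Q).Bm ∧ x ∈ nQ Q} => (⟨x.1, x.2.1⟩ : (frmQ Q).Bm))
    fun a b hab => Subtype.ext (Subtype.mk.inj hab)

/-- the orthogonal row, from the base -/
theorem row_om'' (h0 : S40o) : RowOm :=
  row_om' h0 s12 countMinus countAdj (j := 16) (by norm_num) (by norm_num) plus16 adj16 quadMinus

end Cfsg.Agent.H548.BS
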