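import Cfsg.Agent.H548.BS.Transf
import Cfsg.Agent.H847.Bs.Stmts

/-!
# S5733: assembly of the rows of large rank

The pieces (trick, reducible, generation, blocks) are hypotheses; `row_sl`, `row_sp`, `row_su`, `row_om`.
-/

set_option autoImplicit false

namespace Cfsg.Agent.H548.BS

open Module Cfsg.Agent.H851.Dg Cfsg.Agent.H847.Bs
open QuadraticMap Cfsg.Agent.LieClassical.OrthCore Cfsg.Agent.LieClassical.OrthTrans
  Cfsg.Agent.LieClassical.OrthFinite Cfsg.Agent.LieClassical.OrthForms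

section lemmas

variable {F V : Type*} [Field F] [AddCommGroup V] [Module F V]

theorem ndV_ge [Finite V] {G H : Subgroup (V ≃ₗ[F] V)} {P : (V ≃ₗ[F] V) → Prop}
    (hS : ∀ x, P x → x ∈ G ∧ ∀ g ∈ G, g * x * g⁻¹ ∉ H) : Nat.card {x // P x} ≤ ndV G H := by
  have : Finite (V ≃ₗ[F] V) := Finite.of_injective (fun g : V ≃ₗ[F] V => (g : V → V)) DFunLike.coe_injective
  exact Nat.card_le_card_of_injective (fun x : {x // P x} =>
    (⟨x.1, (hS x.1 x.2).1, (hS x.1 x.2).2⟩ : {x : V ≃ₗ[F] V // x ∈ G ∧ ∀ g ∈ G, g * x * g⁻¹ ∉ H}))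
    fun a b hab => Subtype.ext (Subtype.mk.inj hab)

theorem inv_conj {x g : V ≃ₗ[F] V} {Y : Submodule F V} (h : Inv (g * x * g⁻¹) Y) :
    Inv x (Y.map ((g⁻¹ : V ≃ₗ[F] V) : V →ₗ[F] V)) := by
  rintro _ ⟨y, hy, rfl⟩
  refine ⟨(g * x * g⁻¹) y, h y hy, ?_⟩
  show g⁻¹ (g (x (g⁻¹ y))) = x (g⁻¹ y)
  exact g.symm_apply_apply _

end lemmas

/-! ### linear -/

/-- the row -/
def RowSL : Prop := ∃ c : ℝ, 0 < c ∧ ∃ n₀ : ℕ, ∀ (F V : Type) [Field F] [Finite F] [AddCommGroup V] [Module F V]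
  [FiniteDimensional F V], n₀ ≤ finrank F V → ∀ H ≤ slV F V, H ≠ slV F V → c * (Nat.card (slV F V) : ℝ) ≤ ndV (slV F V) H

theorem s24 : S24 :=
  ⟨1 / 16, by norm_num, 5, fun _ _ _ _ _ _ _ hn _ hk hk' => sl_reducible hn hk hk'⟩

theorem row_sl (h0 : S40a) (h1 : S20) (h2 : S30) (h3 : S34) : RowSL := by
  obtain ⟨c1, hc1, n1, h1⟩ := h1 h0
  obtain ⟨c3, hc3, n3, h3⟩ := h3
  refine ⟨min (min c1 c3) (1 / 16), lt_min (lt_min hc1 hc3) (by norm_num), max (max n1 n3) 5, ?_⟩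
  intro F V _ _ _ _ _ hn H hH hne
  have hn1 : n1 ≤ finrank F V := (le_max_left _ _).trans ((le_max_left _ _).trans hn)
  have hn3 : n3 ≤ finrank F V := (le_max_right _ _).trans ((le_max_left _ _).trans hn)
  have hn5 : 5 ≤ finrank F V := (le_max_right _ _).trans hn
  have : Finite V := Module.finite_of_finite F
  have hc : (0 : ℝ) ≤ (Nat.card (slV F V) : ℝ) := Nat.cast_nonneg _
  by_contra hcon
  push Not at hcon
  have hlt1 : (ndV (slV F V) H : ℝ) < c1 * Nat.card (slV F V) :=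
    hcon.trans_le (mul_le_mul_of_nonneg_right ((min_le_left _ _).trans (min_le_left _ _)) hc)
  have hlt3 : (ndV (slV F V) H : ℝ) < c3 * Nat.card (slV F V) :=
    hcon.trans_le (mul_le_mul_of_nonneg_right ((min_le_left _ _).trans (min_le_right _ _)) hc)
  have hlt2 : (ndV (slV F V) H : ℝ) < 1 / 16 * Nat.card (slV F V) :=
    hcon.trans_le (mul_le_mul_of_nonneg_right (min_le_right _ _) hc)
  obtain ⟨W, U, hWU, hW, hH1⟩ := h1 F V hn1 H hH hlt1
  by_cases hirr : IrrG H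
  · rcases h2 F V H W U hH hirr hWU hW.ge hH1 with h | ⟨D, hD, hD3⟩
    · exact hne (le_antisymm hH h)
    · exact absurd (h3 F V hn3 H hH hirr D hD (by omega)) (not_le.2 hlt3)
  · unfold IrrG at hirr
    push Not at hirr
    obtain ⟨Y, hY, hY0, hY1⟩ := hirr
    have hk : 1 ≤ finrank F Y := by
      rw [Nat.one_le_iff_ne_zero]
      exact fun h => hY0 (Submodule.finrank_eq_zero.1 h)
    have hk' : finrank F Y < finrank F V := Submodule.finrank_lt hY1
    have h4 := sl_reducible hn5 hk hk'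
    have h5 : Nat.card {x // x ∈ slV F V ∧ ∀ Z : Submodule F V, Inv x Z → finrank F Z ≠ finrank F Y} ≤
        ndV (slV F V) H := by
      refine ndV_ge (P := fun x => x ∈ slV F V ∧ ∀ Z : Submodule F V, Inv x Z → finrank F Z ≠ finrank F Y) ?_
      rintro x ⟨hx, hx2⟩
      refine ⟨hx, fun g hg hgx => ?_⟩
      exact hx2 _ (inv_conj (hY _ hgx)) (LinearEquiv.finrank_map_eq (g⁻¹ : V ≃ₗ[F] V) Y)
    have h6 : (Nat.card {x // x ∈ slV F V ∧ ∀ Z : Submodule F V, Inv x Z → finrank F Z ≠ finrank F Y} : ℝ) ≤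
        ndV (slV F V) H := by exact_mod_cast h5
    exact absurd (h4.trans h6) (not_le.2 hlt2)

/-! ### spaces with a form: the common part -/

section form

variable {F V : Type*} [Field F] [AddCommGroup V] [Module F V]

/-- the radical of an invariant subspace -/
def rad (Φ : Frm F V) (Y : Submodule F V) : Submodule F V where
  carrier := {x | x ∈ Y ∧ ∀ y ∈ Y, Φ.B x y = 0}
  add_mem' := by
    rintro a b ⟨ha, ha'⟩ ⟨hb, hb'⟩
    refine ⟨Y.add_mem ha hb, fun y hy => ?_⟩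
    rw [Φ.add_left, ha' y hy, hb' y hy, add_zero]
  zero_mem' := by
    refine ⟨Y.zero_mem, fun y hy => ?_⟩
    have := Φ.smul_left 0 0 y
    rwa [zero_smul, zero_mul] at this
  smul_mem' := by
    rintro c a ⟨ha, ha'⟩
    refine ⟨Y.smul_mem c ha, fun y hy => ?_⟩
    rw [Φ.smul_left, ha' y hy, mul_zero]

theorem inv_rad {Φ : Frm F V} {Y : Submodule F V} {x : V ≃ₗ[F] V} (hx : x ∈ Φ.Iso) (hY : Inv x Y)
    (hY' : ∀ y ∈ Y, ∃ z ∈ Y, x z = y) : Inv x (rad Φ Y) := by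
  rintro v ⟨hv, hv'⟩
  refine ⟨hY v hv, fun y hy => ?_⟩
  obtain ⟨z, hz, rfl⟩ := hY' y hy
  rw [hx.1, hv' z hz]

theorem surj_of_inv [FiniteDimensional F V] {x : V ≃ₗ[F] V} {Y : Submodule F V} (h : Inv x Y) :
    ∀ y ∈ Y, ∃ z ∈ Y, x z = y := by
  intro y hy
  rw [← map_eq_of_inv h] at hy
  obtain ⟨z, hz, hzy⟩ := hy
  exact ⟨z, hz, hzy⟩

/-- reducible groups of isometries fix a totally isotropic or nondegenerate subspace (`q = 0`) -/
theorem exists_ti_or_nd [FiniteDimensional F V] {Φ : Frm F V} (hq : ∀ x, Φ.q x = 0) {H : Subgroup (V ≃ₗ[F] V)}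
    (hH : H ≤ Φ.Iso) (hred : ¬ IrrG H) :
    ∃ Y : Submodule F V, Y ≠ ⊥ ∧ Y ≠ ⊤ ∧ (∀ h ∈ H, Inv h Y) ∧ (Φ.TI Y ∨ Φ.NdOn Y) := by
  unfold IrrG at hred
  push Not at hred
  obtain ⟨Y, hY, hY0, hY1⟩ := hred
  by_cases h0 : rad Φ Y = ⊥
  · refine ⟨Y, hY0, hY1, hY, Or.inr fun x hx hxy => ?_⟩
    have : x ∈ rad Φ Y := ⟨hx, hxy⟩
    rw [h0] at this
    exact (Submodule.mem_bot F).1 this
  · have hle : rad Φ Y ≤ Y := fun x hx => hx.1
    refine ⟨rad Φ Y, h0, fun h => hY1 (top_le_iff.1 (h ▸ hle)), fun h hh => ?_, Or.inl ⟨?_, fun x _ => hq x⟩⟩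
    · exact inv_rad (hH hh) (hY h hh) (surj_of_inv (hY h hh))
    · rintro x ⟨hx, hx'⟩ y ⟨hy, -⟩
      exact hx' y hy

end form

/-- conclusion for stabilisers of `Y₀`, elements of `G` -/
def RedC {F V : Type} [Field F] [AddCommGroup V] [Module F V] (c : ℝ) (G : Subgroup (V ≃ₗ[F] V))
    (Y₀ : Submodule F V) : Prop :=
  c * (Nat.card G : ℝ) ≤ noInv G Y₀

theorem RedC.le_ndV {F V : Type} [Field F] [AddCommGroup V] [Module F V] [Finite V] {c : ℝ}
    {G H : Subgroup (V ≃ₗ[F] V)} {Y₀ : Submodule F V} (h : RedC c G Y₀) (hY : ∀ h ∈ H, Inv h Y₀) :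
    c * (Nat.card G : ℝ) ≤ ndV G H := by
  refine h.trans ?_
  have h5 : noInv G Y₀ ≤ ndV G H := by
    refine ndV_ge (P := fun x => x ∈ G ∧ ∀ g ∈ G, ¬ Inv x (Y₀.map (g : V →ₗ[F] V))) ?_
    rintro x ⟨hx, hx2⟩
    exact ⟨hx, fun g hg hgx => hx2 g⁻¹ (G.inv_mem hg) (inv_conj (hY _ hgx))⟩
  exact_mod_cast h5

/-- the common argument: `G` a group of isometries -/
theorem row_form {F V : Type} [Field F] [Finite F] [AddCommGroup V] [Module F V] [FiniteDimensional F V]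
    {Φ : Frm F V} {G H : Subgroup (V ≃ₗ[F] V)} (hH : H ≤ G) (hne : H ≠ G)
    {c c1 c2 c3 : ℝ} (hc1 : c ≤ c1) (hc2 : c ≤ c2) (hc3 : c ≤ c3) {P : Prop}
    (trick : (ndV G H : ℝ) < c1 * Nat.card G → P)
    (gen : P → IrrG H → G ≤ H ∨ ∃ D, Blk Φ H D ∧ 2 ≤ finrank F D)
    (blk : IrrG H → ∀ D, Blk Φ H D → 2 ≤ finrank F D → c3 * (Nat.card G : ℝ) ≤ ndV G H)
    (red : ¬ IrrG H → ∃ Y, (∀ h ∈ H, Inv h Y) ∧ RedC c2 G Y) : c * (Nat.card G : ℝ) ≤ ndV G H := by
  have : Finite V := Module.finite_of_finite F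
  have hc : (0 : ℝ) ≤ (Nat.card G : ℝ) := Nat.cast_nonneg _
  by_contra hcon
  push Not at hcon
  have hP := trick (hcon.trans_le (mul_le_mul_of_nonneg_right hc1 hc))
  by_cases hirr : IrrG H
  · rcases gen hP hirr with h | ⟨D, hD, hD3⟩
    · exact hne (le_antisymm hH h)
    · exact absurd (blk hirr D hD hD3) (not_le.2 (hcon.trans_le (mul_le_mul_of_nonneg_right hc3 hc)))
  · obtain ⟨Y, hY, hred⟩ := red hirr
    exact absurd (hred.le_ndV hY) (not_le.2 (hcon.trans_le (mul_le_mul_of_nonneg_right hc2 hc)))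

/-! ### symplectic -/

/-- the row -/
def RowSp : Prop := ∃ c : ℝ, 0 < c ∧ ∃ n₀ : ℕ, ∀ (F V : Type) [Field F] [Finite F] [AddCommGroup V] [Module F V]
  [FiniteDimensional F V] (Φ : Frm F V), IsSp Φ → n₀ ≤ finrank F V → ∀ H ≤ Φ.Iso, H ≠ Φ.Iso →
  c * (Nat.card Φ.Iso : ℝ) ≤ ndV Φ.Iso H

theorem RedC.mono {F V : Type} [Field F] [AddCommGroup V] [Module F V] {c c' : ℝ} (hc : c ≤ c')
    {G : Subgroup (V ≃ₗ[F] V)} {Y₀ : Submodule F V} (h : RedC c' G Y₀) : RedC c G Y₀ :=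
  (mul_le_mul_of_nonneg_right hc (Nat.cast_nonneg _)).trans h

theorem row_sp (h0 : S40s) (h1 : S21) (h2 : S31) (h3 : S35s) (h4 : S25) (h5 : S28s) : RowSp := by
  obtain ⟨c1, hc1, n1, h1⟩ := h1 h0
  obtain ⟨c3, hc3, n3, h3⟩ := h3
  obtain ⟨c4, hc4, n4, h4⟩ := h4
  obtain ⟨c5, hc5, n5, h5⟩ := h5
  refine ⟨min (min c1 c3) (min c4 c5), lt_min (lt_min hc1 hc3) (lt_min hc4 hc5), max (max n1 n3) (max n4 n5), ?_⟩
  intro F V _ _ _ _ _ Φ hΦ hn H hH hne
  refine row_form (Φ := Φ) hH hne ((min_le_left _ _).trans (min_le_left _ _)) (c2 := min c4 c5) (min_le_right _ _)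
    ((min_le_left _ _).trans (min_le_right _ _))
    (h1 F V Φ hΦ ((le_max_left _ _).trans ((le_max_left _ _).trans hn)) H hH) ?_
    (h3 F V Φ hΦ ((le_max_right _ _).trans ((le_max_left _ _).trans hn)) H hH) ?_
  · rintro ⟨W, U, hWU, hW, hon⟩ hirr
    rcases h2 F V Φ H W U hΦ hH hirr hWU hW.ge hon with h | ⟨D, hD, hD4⟩
    · exact Or.inl h
    · exact Or.inr ⟨D, hD, by omega⟩
  · intro hred
    obtain ⟨Y, hY0, hY1, hY, hY2⟩ := exists_ti_or_nd hΦ.q hH hred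
    refine ⟨Y, hY, ?_⟩
    rcases hY2 with hY2 | hY2
    · exact RedC.mono (min_le_left _ _) (h4 F V Φ hΦ ((le_max_left _ _).trans ((le_max_right _ _).trans hn)) Y hY0 hY2)
    · exact RedC.mono (min_le_right _ _) (h5 F V Φ hΦ ((le_max_right _ _).trans ((le_max_right _ _).trans hn)) Y hY0 hY1 hY2)

/-! ### unitary -/

/-- the row -/
def RowSU : Prop := ∃ c : ℝ, 0 < c ∧ ∃ n₀ : ℕ, ∀ (F V : Type) [Field F] [Finite F] [AddCommGroup V]
  [Module F V] [FiniteDimensional F V] (r : ℕ) (Φ : Frm F V), IsHerm r Φ → n₀ ≤ finrank F V → ∀ H ≤ Φ.Iso ⊓ slV F V,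
  H ≠ Φ.Iso ⊓ slV F V → c * (Nat.card ↥(Φ.Iso ⊓ slV F V) : ℝ) ≤ ndV (Φ.Iso ⊓ slV F V) H

theorem row_su (h0 : S40u) (h1 : S22) (h2 : S32) (h3 : S35u) (h4 : S26) (h5 : S28u) : RowSU := by
  obtain ⟨c1, hc1, n1, h1⟩ := h1 h0
  obtain ⟨c3, hc3, n3, h3⟩ := h3
  obtain ⟨c4, hc4, n4, h4⟩ := h4
  obtain ⟨c5, hc5, n5, h5⟩ := h5
  refine ⟨min (min c1 c3) (min c4 c5), lt_min (lt_min hc1 hc3) (lt_min hc4 hc5), max (max n1 n3) (max n4 n5), ?_⟩
  intro F V _ _ _ _ _ r Φ hΦ hn H hH hne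
  refine row_form (Φ := Φ) hH hne ((min_le_left _ _).trans (min_le_left _ _)) (c2 := min c4 c5) (min_le_right _ _)
    ((min_le_left _ _).trans (min_le_right _ _))
    (h1 F V r Φ hΦ ((le_max_left _ _).trans ((le_max_left _ _).trans hn)) H hH) ?_
    (h3 F V r Φ hΦ ((le_max_right _ _).trans ((le_max_left _ _).trans hn)) H hH) ?_
  · rintro ⟨W, U, hWU, hW, hon⟩ hirr
    rcases h2 F V r Φ H W U hΦ hH hirr hWU hW.ge hon with h | ⟨D, hD, hD4⟩
    · exact Or.inl h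
    · exact Or.inr ⟨D, hD, by omega⟩
  · intro hred
    obtain ⟨Y, hY0, hY1, hY, hY2⟩ := exists_ti_or_nd hΦ.q (hH.trans inf_le_left) hred
    refine ⟨Y, hY, ?_⟩
    rcases hY2 with hY2 | hY2
    · exact RedC.mono (min_le_left _ _) (h4 F V r Φ hΦ ((le_max_left _ _).trans ((le_max_right _ _).trans hn)) Y hY0 hY2)
    · exact RedC.mono (min_le_right _ _) (h5 F V r Φ hΦ ((le_max_right _ _).trans ((le_max_right _ _).trans hn)) Y hY0 hY1 hY2)

/-! ### orthogonal -/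

/-- reducible groups of isometries of a quadratic form -/
theorem exists_orth {F V : Type} [Field F] [Finite F] [AddCommGroup V] [Module F V] [FiniteDimensional F V]
    {Q : QuadraticForm F V} {H : Subgroup (V ≃ₗ[F] V)} (hH : H ≤ O Q) (hred : ¬ IrrG H) :
    ∃ Y : Submodule F V, Y ≠ ⊥ ∧ Y ≠ ⊤ ∧ (∀ h ∈ H, Inv h Y) ∧ (((frmQ Q).TI Y ∨
      ((2 : F) = 0 ∧ ∃ y : V, Q y ≠ 0 ∧ Y = Submodule.span F {y})) ∨ (frmQ Q).NdOn Y) := by
  have hO : O Q ≤ (frmQ Q).Iso := fun g hg => ⟨fun x y => by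
    show polar Q (g x) (g y) = polar Q x y
    unfold polar
    rw [← map_add, hg, hg, hg], hg⟩
  unfold IrrG at hred
  push Not at hred
  obtain ⟨Y, hY, hY0, hY1⟩ := hred
  by_cases h0 : rad (frmQ Q) Y = ⊥
  · refine ⟨Y, hY0, hY1, hY, Or.inr fun x hx hxy => ?_⟩
    have : x ∈ rad (frmQ Q) Y := ⟨hx, hxy⟩
    rw [h0] at this
    exact (Submodule.mem_bot F).1 this
  · have hle : rad (frmQ Q) Y ≤ Y := fun x hx => hx.1
    have hR : ∀ h ∈ H, Inv h (rad (frmQ Q) Y) := fun h hh =>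
      inv_rad (hO (hH hh)) (hY h hh) (surj_of_inv (hY h hh))
    have hB : ∀ x ∈ rad (frmQ Q) Y, ∀ y ∈ rad (frmQ Q) Y, polar Q x y = 0 := fun x hx y hy => hx.2 y hy.1
    -- the singular vectors of the radical
    let S : Submodule F V :=
      { carrier := {x | x ∈ rad (frmQ Q) Y ∧ Q x = 0}
        add_mem' := by
          rintro a b ⟨ha, ha'⟩ ⟨hb, hb'⟩
          refine ⟨Submodule.add_mem _ ha hb, ?_⟩
          have h1 : Q (a + b) - Q a - Q b = 0 := hB a ha b hb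
          rw [ha', hb', sub_zero, sub_zero] at h1
          exact h1
        zero_mem' := ⟨Submodule.zero_mem _, QuadraticMap.map_zero Q⟩
        smul_mem' := by
          rintro c a ⟨ha, ha'⟩
          refine ⟨Submodule.smul_mem _ c ha, ?_⟩
          rw [QuadraticMap.map_smul, ha', smul_zero] }
    by_cases hS : S = ⊥
    · -- `Q` is injective on the radical: dimension one, characteristic 2
      obtain ⟨y, hy, hy0⟩ := Submodule.exists_mem_ne_zero_of_ne_bot h0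
      have hQ : ∀ x ∈ rad (frmQ Q) Y, Q x = 0 → x = 0 := fun x hx hx0 => by
        have : x ∈ S := ⟨hx, hx0⟩
        rw [hS] at this
        exact (Submodule.mem_bot F).1 this
      have hQy : Q y ≠ 0 := fun h => hy0 (hQ y hy h)
      have h2 : (2 : F) = 0 := by
        by_contra h2
        have h3 := hB y hy y hy
        have h4 : polar Q y y = 2 * Q y := by
          unfold polar
          rw [← two_smul F y, QuadraticMap.map_smul, smul_eq_mul]
          ring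
        rw [h4] at h3
        exact (mul_ne_zero h2 hQy) h3
      have : Fintype F := Fintype.ofFinite F
      have hchar : CharP F 2 := by
        refine (CharP.charP_iff_prime_eq_zero Nat.prime_two).2 ?_
        exact_mod_cast h2
      have hspan : rad (frmQ Q) Y = Submodule.span F {y} := by
        apply le_antisymm
        · intro x hx
          -- choose `a` with `a ^ 2 = Q x / Q y`
          obtain ⟨a, ha⟩ : ∃ a : F, a ^ 2 = Q x / Q y := by
            have hsurj : Function.Surjective (fun a : F => a ^ 2) := by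
              apply Finite.surjective_of_injective
              intro a b hab
              exact frobenius_inj F 2 hab
            exact hsurj _
          have hx2 : x - a • y ∈ rad (frmQ Q) Y := Submodule.sub_mem _ hx (Submodule.smul_mem _ _ hy)
          have h5 : Q (x - a • y) = 0 := by
            have h6 : Q (x + (-a) • y) - Q x - Q ((-a) • y) = 0 := hB x hx _ (Submodule.smul_mem _ _ hy)
            rw [sub_sub, sub_eq_zero, QuadraticMap.map_smul, smul_eq_mul, neg_mul_neg, ← pow_two, ha,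
              div_mul_cancel₀ _ hQy] at h6
            rw [sub_eq_add_neg, ← neg_smul, h6, ← two_mul, h2, zero_mul]
          have h6 := hQ _ hx2 h5
          rw [sub_eq_zero] at h6
          rw [h6]
          exact Submodule.smul_mem _ _ (Submodule.mem_span_singleton_self y)
        · exact (Submodule.span_singleton_le_iff_mem _ _).2 hy
      exact ⟨rad (frmQ Q) Y, h0, fun h => hY1 (top_le_iff.1 (h ▸ hle)), hR, Or.inl (Or.inr ⟨h2, y, hQy, hspan⟩)⟩
    · refine ⟨S, hS, fun h => hY1 (top_le_iff.1 (h ▸ fun x hx => hle hx.1)), fun h hh x hx => ?_,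
        Or.inl (Or.inl ⟨fun x hx y hy => hB x hx.1 y hy.1, fun x hx => hx.2⟩)⟩
      exact ⟨hR h hh x hx.1, by rw [hH hh x, hx.2]⟩

/-- the row -/
def RowOm : Prop := ∃ c : ℝ, 0 < c ∧ ∃ n₀ : ℕ, ∀ (F V : Type) [Field F] [Finite F] [AddCommGroup V] [Module F V]
  [FiniteDimensional F V] (Q : QuadraticForm F V), (frmQ Q).Nd → n₀ ≤ finrank F V → ∀ H ≤ E Q, H ≠ E Q →
  c * (Nat.card (E Q) : ℝ) ≤ ndV (E Q) H

theorem row_om (h0 : S40o) (h1 : S23) (h2 : S33) (h3 : S35o) (h4 : S27) (h5 : S28o) : RowOm := by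
  obtain ⟨c1, hc1, n1, h1⟩ := h1 h0
  obtain ⟨c3, hc3, n3, h3⟩ := h3
  obtain ⟨c4, hc4, n4, h4⟩ := h4
  obtain ⟨c5, hc5, n5, h5⟩ := h5
  refine ⟨min (min c1 c3) (min c4 c5), lt_min (lt_min hc1 hc3) (lt_min hc4 hc5), max (max n1 n3) (max n4 n5), ?_⟩
  intro F V _ _ _ _ _ Q hΦ hn H hH hne
  refine row_form (Φ := frmQ Q) hH hne ((min_le_left _ _).trans (min_le_left _ _)) (c2 := min c4 c5)
    (min_le_right _ _) ((min_le_left _ _).trans (min_le_right _ _))
    (h1 F V Q hΦ ((le_max_left _ _).trans ((le_max_left _ _).trans hn)) H hH) ?_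
    (h3 F V Q hΦ ((le_max_right _ _).trans ((le_max_left _ _).trans hn)) H hH) ?_
  · rintro ⟨W, hWU, hW, hon⟩ hirr
    rcases h2 F V Q H W hΦ hH hirr hWU (by omega) hon with h | ⟨D, hD, hD4⟩
    · exact Or.inl h
    · exact Or.inr ⟨D, hD, by omega⟩
  · intro hred
    obtain ⟨Y, hY0, hY1, hY, hY2⟩ := exists_orth (hH.trans E_le_O) hred
    refine ⟨Y, hY, ?_⟩
    rcases hY2 with hY2 | hY2
    · exact RedC.mono (min_le_left _ _) (h4 F V Q hΦ ((le_max_left _ _).trans ((le_max_right _ _).trans hn)) Y hY0 hY2)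
    · exact RedC.mono (min_le_right _ _) (h5 F V Q hΦ ((le_max_right _ _).trans ((le_max_right _ _).trans hn)) Y hY0 hY1 hY2)

end Cfsg.Agent.H548.BS
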