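import Cfsg.Agent.H548.BS.LinExt

/-!
# S5733: reducible subgroups of `SL(V)`

`sl_rank` : a subgroup of a group inducing at least `SL(V)` (`dim V ≥ 5`) stabilising a proper subspace `U` has
`|T| ≤ 16 nd`, uniformly in `dim V`, `dim U`, `q`.
-/

set_option autoImplicit false

namespace Cfsg.Agent.H548.BS

open Module Cfsg.Agent.H851.Dg

variable {F V : Type*} [Field F] [AddCommGroup V] [Module F V] [FiniteDimensional F V]

theorem finrank_map_mkQ (A S : Submodule F V) :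
    finrank F (S.map A.mkQ) + finrank F (A ⊓ S : Submodule F V) = finrank F S := by
  have h := LinearMap.finrank_range_add_finrank_ker (A.mkQ.domRestrict S)
  have h1 : LinearMap.range (A.mkQ.domRestrict S) = S.map A.mkQ := by
    ext x
    simp only [LinearMap.mem_range, Submodule.mem_map, LinearMap.domRestrict_apply]
    exact ⟨fun ⟨y, hy⟩ => ⟨y, y.2, hy⟩, fun ⟨y, hy, hyx⟩ => ⟨⟨y, hy⟩, hyx⟩⟩
  have h2 : finrank F (LinearMap.ker (A.mkQ.domRestrict S)) = finrank F (A ⊓ S : Submodule F V) := by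
    have h3 : LinearMap.ker (A.mkQ.domRestrict S) = (A ⊓ S).comap S.subtype := by
      ext x
      simp [LinearMap.mem_ker, LinearMap.domRestrict_apply]
    rw [h3]
    exact (Submodule.comapSubtypeEquivOfLe (inf_le_right : A ⊓ S ≤ S)).finrank_eq
  rw [h1, h2] at h
  exact h

theorem li_of_finrank {m : ℕ} {A : Submodule F V} {x : Fin m → V}
    (h : finrank F (A ⊔ Submodule.span F (Set.range x) : Submodule F V) = finrank F A + m) :
    LinearIndependent F (fun i => A.mkQ (x i)) := by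
  rw [linearIndependent_iff_card_eq_finrank_span, Fintype.card_fin]
  have h1 : (Set.range fun i => A.mkQ (x i)) = A.mkQ '' (Set.range x) := by
    rw [← Set.range_comp]; rfl
  rw [Set.finrank, h1, ← Submodule.map_span]
  have h2 : (Submodule.span F (Set.range x)).map A.mkQ = (A ⊔ Submodule.span F (Set.range x)).map A.mkQ := by
    rw [Submodule.map_sup]
    rw [Submodule.mkQ_map_self, bot_sup_eq]
  rw [h2]
  have h3 := finrank_map_mkQ A (A ⊔ Submodule.span F (Set.range x))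
  rw [inf_eq_left.2 (le_sup_left : A ≤ A ⊔ Submodule.span F (Set.range x)), h] at h3
  omega

/-- adjacency -/
def Adj (U U' : Submodule F V) : Prop :=
  finrank F U' = finrank F U ∧ finrank F (U ⊓ U' : Submodule F V) + 1 = finrank F U

theorem Adj.exists_left {U U' : Submodule F V} (h : Adj U U') : ∃ u ∈ U, u ∉ U' := by
  by_contra hcon
  push Not at hcon
  have h1 : U ⊓ U' = U := inf_eq_left.2 hcon
  have h2 := h.2
  rw [h1] at h2
  omega

theorem Adj.exists_right {U U' : Submodule F V} (h : Adj U U') : ∃ u ∈ U', u ∉ U := by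
  by_contra hcon
  push Not at hcon
  have h1 : U ⊓ U' = U' := inf_eq_right.2 hcon
  have h2 := h.2
  rw [h1, h.1] at h2
  omega

theorem Adj.left {U U' : Submodule F V} (h : Adj U U') {u : V} (hu : u ∈ U) (hu' : u ∉ U') :
    U = (U ⊓ U') ⊔ F ∙ u :=
  (sup_span_eq inf_le_left h.2 hu fun h2 => hu' h2.2).symm

theorem Adj.right {U U' : Submodule F V} (h : Adj U U') {u : V} (hu : u ∈ U') (hu' : u ∉ U) :
    U' = (U ⊓ U') ⊔ F ∙ u :=
  (sup_span_eq inf_le_right (by rw [h.2, h.1]) hu fun h2 => hu' h2.1).symm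

theorem Adj.sup {U U' : Submodule F V} (h : Adj U U') : finrank F (U ⊔ U' : Submodule F V) = finrank F U + 1 := by
  have h1 := Submodule.finrank_sup_add_finrank_inf_eq U U'
  have h2 := h.1
  have h3 := h.2
  omega

/-- `A ⊔ span {x0}` etc. -/
theorem span_range_one {r : Fin 1 → V} : Submodule.span F (Set.range r) = F ∙ r 0 := by
  rw [Set.range_unique]; rfl

theorem span_range_two {r : Fin 2 → V} : Submodule.span F (Set.range r) = F ∙ r 0 ⊔ F ∙ r 1 := by
  rw [← Submodule.span_union]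
  congr 1
  ext y
  simp only [Set.mem_range, Fin.exists_fin_two, Set.mem_union, Set.mem_singleton_iff, eq_comm]

/-- the five types -/
def c1 : Fin 3 → Fin 1 → Fin 2 → F := ![![![1, 0]], ![![0, 1]], ![![0, 1]]]
def c2 : Fin 3 → Fin 1 → Fin 2 → F := ![![![1, 0]], ![![0, 1]], ![![1, 1]]]
def c3 : Fin 3 → Fin 1 → Fin 3 → F := ![![![1, 0, 0]], ![![0, 1, 0]], ![![0, 0, 1]]]
def c4 : Fin 3 → Fin 2 → Fin 3 → F :=
  ![![![1, 0, 0], ![0, 1, 0]], ![![1, 0, 0], ![0, 0, 1]], ![![0, 1, 0], ![0, 0, 1]]]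
def c5 : Fin 3 → Fin 2 → Fin 4 → F :=
  ![![![1, 0, 0, 0], ![0, 1, 0, 0]], ![![1, 0, 0, 0], ![0, 0, 1, 0]], ![![0, 1, 0, 0], ![0, 0, 0, 1]]]

theorem sup_span_range {m : ℕ} {A : Submodule F V} {x : Fin m → V} {S : Submodule F V} (hA : A ≤ S)
    (hx : ∀ i, x i ∈ S) : A ⊔ Submodule.span F (Set.range x) ≤ S :=
  sup_le hA (Submodule.span_le.2 (by rintro _ ⟨i, rfl⟩; exact hx i))

theorem mem_sup_span_range {m : ℕ} {A : Submodule F V} {x : Fin m → V} (i : Fin m) :
    x i ∈ A ⊔ Submodule.span F (Set.range x) :=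
  Submodule.mem_sup_right (Submodule.subset_span ⟨i, rfl⟩)

theorem nf1 {U U1 : Submodule F V} {k : ℕ} (hk : finrank F U = k + 1) (h1 : Adj U U1) :
    Nf (c1 (F := F)) k ![U, U1, U1] := by
  obtain ⟨u, hu, hu'⟩ := h1.exists_left
  obtain ⟨b, hb, hb'⟩ := h1.exists_right
  have hU := h1.left hu hu'
  have hU1 := h1.right hb hb'
  have hA : finrank F (U ⊓ U1 : Submodule F V) = k := by have := h1.2; omega
  refine ⟨U ⊓ U1, ![u, b], hA, li_of_finrank ?_, ?_⟩
  · have h2 : (U ⊓ U1) ⊔ Submodule.span F (Set.range ![u, b]) = U ⊔ U1 := by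
      rw [span_range_two]
      show (U ⊓ U1) ⊔ (F ∙ u ⊔ F ∙ b) = U ⊔ U1
      calc (U ⊓ U1) ⊔ (F ∙ u ⊔ F ∙ b) = ((U ⊓ U1) ⊔ F ∙ u) ⊔ ((U ⊓ U1) ⊔ F ∙ b) := by
            rw [sup_sup_distrib_left]
        _ = U ⊔ U1 := by rw [← hU, ← hU1]
    rw [h2, h1.sup, hA, hk]
  · intro s
    rw [span_range_one]
    fin_cases s
    · simpa [c1, Fin.sum_univ_two] using hU
    · simpa [c1, Fin.sum_univ_two] using hU1
    · simpa [c1, Fin.sum_univ_two] using hU1

theorem nf2 {U U1 U2 : Submodule F V} {k : ℕ} (hk : finrank F U = k + 1) (h1 : Adj U U1) (h2 : Adj U U2)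
    (hA : U ⊓ U1 = U ⊓ U2) (hB : U ⊔ U1 = U ⊔ U2) (hne : U1 ≠ U2) :
    Nf (c2 (F := F)) k ![U, U1, U2] := by
  obtain ⟨b1, hb1, hb1'⟩ := h1.exists_right
  obtain ⟨b2, hb2, hb2'⟩ := h2.exists_right
  -- `b1 = w + c b2`
  have hmem : b1 ∈ U ⊔ F ∙ b2 := by
    have h3 : U ⊔ F ∙ b2 = U ⊔ U2 := by
      conv_rhs => rw [h2.right hb2 hb2']
      rw [← sup_assoc, sup_eq_left.2 (inf_le_left : U ⊓ U2 ≤ U)]
    rw [h3, ← hB]
    exact Submodule.mem_sup_right hb1
  obtain ⟨w, hw, z, hz, hwz⟩ := Submodule.mem_sup.1 hmem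
  obtain ⟨c, rfl⟩ := Submodule.mem_span_singleton.1 hz
  have hc : c ≠ 0 := by
    rintro rfl
    rw [zero_smul, add_zero] at hwz
    exact hb1' (hwz ▸ hw)
  have hcb : c • b2 ∈ U2 := U2.smul_mem _ hb2
  have hcb' : c • b2 ∉ U := fun h => hb2' ((U.smul_mem_iff hc).1 h)
  have hU1 := h1.right hb1 hb1'
  have hU2 := h2.right hcb hcb'
  have hwA : w ∉ U1 := by
    intro hw1
    apply hne
    have h3 : c • b2 ∈ U1 := by
      have : c • b2 = b1 - w := by rw [← hwz]; abel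
      rw [this]
      exact U1.sub_mem hb1 hw1
    rw [hU2, ← hA, ← h1.right h3 hcb']
  have hw' : -w ∈ U := U.neg_mem hw
  have hw1' : -w ∉ U1 := fun h => hwA (by simpa using U1.neg_mem h)
  have hU := h1.left hw' hw1'
  have hAk : finrank F (U ⊓ U1 : Submodule F V) = k := by have := h1.2; omega
  refine ⟨U ⊓ U1, ![-w, b1], hAk, li_of_finrank ?_, ?_⟩
  · have h2 : (U ⊓ U1) ⊔ Submodule.span F (Set.range ![-w, b1]) = U ⊔ U1 := by
      rw [span_range_two]
      show (U ⊓ U1) ⊔ (F ∙ (-w) ⊔ F ∙ b1) = U ⊔ U1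
      calc (U ⊓ U1) ⊔ (F ∙ (-w) ⊔ F ∙ b1) = ((U ⊓ U1) ⊔ F ∙ (-w)) ⊔ ((U ⊓ U1) ⊔ F ∙ b1) := by
            rw [sup_sup_distrib_left]
        _ = U ⊔ U1 := by rw [← hU, ← hU1]
    rw [h2, h1.sup, hAk, hk]
  · intro s
    rw [span_range_one]
    fin_cases s
    · simpa [c2, Fin.sum_univ_two] using hU
    · simpa [c2, Fin.sum_univ_two] using hU1
    · have : -w + b1 = c • b2 := by rw [← hwz]; abel
      simpa [c2, Fin.sum_univ_two, this, hA] using hU2

theorem nf3 {U U1 U2 : Submodule F V} {k : ℕ} (hk : finrank F U = k + 1) (h1 : Adj U U1) (h2 : Adj U U2)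
    (hA : U ⊓ U1 = U ⊓ U2) (hB : U ⊔ U1 ≠ U ⊔ U2) :
    Nf (c3 (F := F)) k ![U, U1, U2] := by
  obtain ⟨u, hu, hu'⟩ := h1.exists_left
  obtain ⟨b1, hb1, hb1'⟩ := h1.exists_right
  obtain ⟨b2, hb2, hb2'⟩ := h2.exists_right
  have hU := h1.left hu hu'
  have hU1 := h1.right hb1 hb1'
  have hU2 := h2.right hb2 hb2'
  have hAk : finrank F (U ⊓ U1 : Submodule F V) = k := by have := h1.2; omega
  refine ⟨U ⊓ U1, ![u, b1, b2], hAk, li_of_finrank ?_, ?_⟩
  · have h3 : (U ⊓ U1) ⊔ Submodule.span F (Set.range ![u, b1, b2]) = (U ⊔ U1) ⊔ U2 := by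
      apply le_antisymm
      · refine sup_span_range (inf_le_left.trans (le_sup_left.trans le_sup_left)) fun i => ?_
        fin_cases i
        · exact Submodule.mem_sup_left (Submodule.mem_sup_left hu)
        · exact Submodule.mem_sup_left (Submodule.mem_sup_right hb1)
        · exact Submodule.mem_sup_right hb2
      · have m0 := mem_sup_span_range (A := U ⊓ U1) (x := ![u, b1, b2]) 0
        have m1 := mem_sup_span_range (A := U ⊓ U1) (x := ![u, b1, b2]) 1
        have m2 := mem_sup_span_range (A := U ⊓ U1) (x := ![u, b1, b2]) 2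
        refine sup_le (sup_le ?_ ?_) ?_
        · conv_lhs => rw [hU]
          exact sup_le le_sup_left ((Submodule.span_singleton_le_iff_mem _ _).2 m0)
        · conv_lhs => rw [hU1]
          exact sup_le le_sup_left ((Submodule.span_singleton_le_iff_mem _ _).2 m1)
        · conv_lhs => rw [hU2, ← hA]
          exact sup_le le_sup_left ((Submodule.span_singleton_le_iff_mem _ _).2 m2)
    have h4 : finrank F ((U ⊔ U1) ⊔ U2 : Submodule F V) = k + 3 := by
      have e1 := h1.sup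
      have e2 := h2.sup
      have h5 : U ⊔ U1 ⊔ U2 = (U ⊔ U1) ⊔ F ∙ b2 := by
        apply le_antisymm
        · refine sup_le le_sup_left ?_
          conv_lhs => rw [hU2]
          exact sup_le (inf_le_left.trans (le_sup_left.trans le_sup_left)) le_sup_right
        · exact sup_le le_sup_left ((Submodule.span_singleton_le_iff_mem _ _).2 (Submodule.mem_sup_right hb2))
      have hb3 : b2 ∉ U ⊔ U1 := by
        intro h6
        apply hB
        symm
        refine Submodule.eq_of_le_of_finrank_le (sup_le le_sup_left ?_) (by rw [e1, e2])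
        conv_lhs => rw [hU2]
        exact sup_le (inf_le_left.trans le_sup_left) ((Submodule.span_singleton_le_iff_mem _ _).2 h6)
      have h6 : Disjoint (U ⊔ U1) (F ∙ b2) := by
        rw [Submodule.disjoint_span_singleton']
        · exact hb3
        · rintro rfl
          exact hb3 (Submodule.zero_mem _)
      have h7 := Submodule.finrank_sup_add_finrank_inf_eq (U ⊔ U1) (F ∙ b2)
      rw [h6.eq_bot, finrank_bot, finrank_span_singleton (by rintro rfl; exact hb3 (Submodule.zero_mem _)), e1] at h7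
      rw [h5]
      omega
    rw [h3, h4, hAk]
  · intro s
    rw [span_range_one]
    fin_cases s
    · simpa [c3, Fin.sum_univ_three] using hU
    · simpa [c3, Fin.sum_univ_three] using hU1
    · rw [← hA] at hU2
      simpa [c3, Fin.sum_univ_three] using hU2

/-- data for two different hyperplanes -/
theorem Adj.two {U U1 U2 : Submodule F V} {k : ℕ} (hk : finrank F U = k + 2) (h1 : Adj U U1) (h2 : Adj U U2)
    (hA : U ⊓ U1 ≠ U ⊓ U2) : ∃ a1 a2 : V, a1 ∈ U ⊓ U1 ∧ a2 ∈ U ⊓ U2 ∧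
      finrank F (U ⊓ U1 ⊓ U2 : Submodule F V) = k ∧
      U ⊓ U1 ⊓ U2 ⊔ F ∙ a1 = U ⊓ U1 ∧ U ⊓ U1 ⊓ U2 ⊔ F ∙ a2 = U ⊓ U2 ∧ (U ⊓ U1) ⊔ (U ⊓ U2) = U := by
  have e1 := h1.2
  have e2 := h2.2
  have hsup : (U ⊓ U1) ⊔ (U ⊓ U2) = U := by
    refine Submodule.eq_of_le_of_finrank_le (sup_le inf_le_left inf_le_left) ?_
    have h3 : U ⊓ U1 < (U ⊓ U1) ⊔ (U ⊓ U2) := by
      refine lt_of_le_of_ne le_sup_left fun h => hA ?_
      have h4 : U ⊓ U2 ≤ U ⊓ U1 := by rw [h]; exact le_sup_right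
      exact (Submodule.eq_of_le_of_finrank_le h4 (by omega)).symm
    have h4 := Submodule.finrank_lt_finrank_of_lt h3
    omega
  have hinf : (U ⊓ U1) ⊓ (U ⊓ U2) = U ⊓ U1 ⊓ U2 := by
    rw [inf_inf_inf_comm, inf_idem, ← inf_assoc]
  have h3 := Submodule.finrank_sup_add_finrank_inf_eq (U ⊓ U1) (U ⊓ U2)
  rw [hsup, hinf] at h3
  have hC : finrank F (U ⊓ U1 ⊓ U2 : Submodule F V) = k := by omega
  have h4 : ∃ a1 ∈ U ⊓ U1, a1 ∉ U ⊓ U1 ⊓ U2 := by
    by_contra hcon
    push Not at hcon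
    have := Submodule.finrank_mono (show U ⊓ U1 ≤ U ⊓ U1 ⊓ U2 from hcon)
    omega
  have h5 : ∃ a2 ∈ U ⊓ U2, a2 ∉ U ⊓ U1 ⊓ U2 := by
    by_contra hcon
    push Not at hcon
    have := Submodule.finrank_mono (show U ⊓ U2 ≤ U ⊓ U1 ⊓ U2 from hcon)
    omega
  obtain ⟨a1, ha1, ha1'⟩ := h4
  obtain ⟨a2, ha2, ha2'⟩ := h5
  refine ⟨a1, a2, ha1, ha2, hC, sup_span_eq inf_le_left (by omega) ha1 ha1', sup_span_eq ?_ (by omega) ha2 ha2', hsup⟩
  rw [← hinf]
  exact inf_le_right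

theorem nf4 {U U1 U2 : Submodule F V} {k : ℕ} (hk : finrank F U = k + 2) (h1 : Adj U U1) (h2 : Adj U U2)
    (hA : U ⊓ U1 ≠ U ⊓ U2) (hB : U ⊔ U1 = U ⊔ U2) :
    Nf (c4 (F := F)) k ![U, U1, U2] := by
  obtain ⟨a1, a2, ha1, ha2, hC, hs1, hs2, hsup⟩ := Adj.two hk h1 h2 hA
  obtain ⟨b1, hb1, hb1'⟩ := h1.exists_right
  obtain ⟨b2, hb2, hb2'⟩ := h2.exists_right
  -- a common vector `b ∈ U1 ⊓ U2`, not in `U`
  obtain ⟨b, hbU1, hbU2, hbU⟩ : ∃ b, b ∈ U1 ∧ b ∈ U2 ∧ b ∉ U := by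
    have hmem : b1 ∈ U ⊔ F ∙ b2 := by
      have h3 : U ⊔ F ∙ b2 = U ⊔ U2 := by
        conv_rhs => rw [h2.right hb2 hb2']
        rw [← sup_assoc, sup_eq_left.2 (inf_le_left : U ⊓ U2 ≤ U)]
      rw [h3, ← hB]
      exact Submodule.mem_sup_right hb1
    obtain ⟨w, hw, z, hz, hwz⟩ := Submodule.mem_sup.1 hmem
    obtain ⟨c, rfl⟩ := Submodule.mem_span_singleton.1 hz
    rw [← hsup] at hw
    obtain ⟨w1, hw1, w2, hw2, rfl⟩ := Submodule.mem_sup.1 hw
    refine ⟨b1 - w1, U1.sub_mem hb1 hw1.2, ?_, ?_⟩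
    · have : b1 - w1 = w2 + c • b2 := by rw [← hwz]; abel
      rw [this]
      exact U2.add_mem hw2.2 (U2.smul_mem _ hb2)
    · intro h
      apply hb1'
      have := U.add_mem h hw1.1
      rwa [sub_add_cancel] at this
  have hU1 := h1.right hbU1 hbU
  have hU2 := h2.right hbU2 hbU
  rw [← hs1] at hU1
  rw [← hs2] at hU2
  have hU : U = U ⊓ U1 ⊓ U2 ⊔ F ∙ a1 ⊔ F ∙ a2 := by
    conv_lhs => rw [← hsup, ← hs1, ← hs2]
    rw [sup_sup_sup_comm, sup_idem, ← sup_assoc]
  refine ⟨U ⊓ U1 ⊓ U2, ![a1, a2, b], hC, li_of_finrank ?_, ?_⟩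
  · have h3 : (U ⊓ U1 ⊓ U2) ⊔ Submodule.span F (Set.range ![a1, a2, b]) = U ⊔ U1 := by
      apply le_antisymm
      · refine sup_span_range (inf_le_left.trans (inf_le_left.trans le_sup_left)) fun i => ?_
        fin_cases i
        · exact Submodule.mem_sup_left ha1.1
        · exact Submodule.mem_sup_left ha2.1
        · exact Submodule.mem_sup_right hbU1
      · have m0 := mem_sup_span_range (A := U ⊓ U1 ⊓ U2) (x := ![a1, a2, b]) 0
        have m1 := mem_sup_span_range (A := U ⊓ U1 ⊓ U2) (x := ![a1, a2, b]) 1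
        have m2 := mem_sup_span_range (A := U ⊓ U1 ⊓ U2) (x := ![a1, a2, b]) 2
        have n0 := (Submodule.span_singleton_le_iff_mem _ _).2 m0
        have n1 := (Submodule.span_singleton_le_iff_mem _ _).2 m1
        have n2 := (Submodule.span_singleton_le_iff_mem _ _).2 m2
        refine sup_le ?_ ?_
        · conv_lhs => rw [hU]
          exact sup_le (sup_le le_sup_left n0) n1
        · conv_lhs => rw [hU1]
          exact sup_le (sup_le le_sup_left n0) n2
    rw [h3, h1.sup, hC, hk]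
  · intro s
    rw [span_range_two, ← sup_assoc]
    fin_cases s
    · simpa [c4, Fin.sum_univ_three] using hU
    · simpa [c4, Fin.sum_univ_three] using hU1
    · simpa [c4, Fin.sum_univ_three] using hU2

theorem nf5 {U U1 U2 : Submodule F V} {k : ℕ} (hk : finrank F U = k + 2) (h1 : Adj U U1) (h2 : Adj U U2)
    (hA : U ⊓ U1 ≠ U ⊓ U2) (hB : U ⊔ U1 ≠ U ⊔ U2) :
    Nf (c5 (F := F)) k ![U, U1, U2] := by
  obtain ⟨a1, a2, ha1, ha2, hC, hs1, hs2, hsup⟩ := Adj.two hk h1 h2 hA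
  obtain ⟨b1, hb1, hb1'⟩ := h1.exists_right
  obtain ⟨b2, hb2, hb2'⟩ := h2.exists_right
  have hU1 := h1.right hb1 hb1'
  have hU2 := h2.right hb2 hb2'
  have hU2' := hU2
  rw [← hs1] at hU1
  rw [← hs2] at hU2
  have hU : U = U ⊓ U1 ⊓ U2 ⊔ F ∙ a1 ⊔ F ∙ a2 := by
    conv_lhs => rw [← hsup, ← hs1, ← hs2]
    rw [sup_sup_sup_comm, sup_idem, ← sup_assoc]
  refine ⟨U ⊓ U1 ⊓ U2, ![a1, a2, b1, b2], hC, li_of_finrank ?_, ?_⟩
  · have h3 : (U ⊓ U1 ⊓ U2) ⊔ Submodule.span F (Set.range ![a1, a2, b1, b2]) = (U ⊔ U1) ⊔ U2 := by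
      apply le_antisymm
      · refine sup_span_range (inf_le_left.trans (inf_le_left.trans (le_sup_left.trans le_sup_left))) fun i => ?_
        fin_cases i
        · exact Submodule.mem_sup_left (Submodule.mem_sup_left ha1.1)
        · exact Submodule.mem_sup_left (Submodule.mem_sup_left ha2.1)
        · exact Submodule.mem_sup_left (Submodule.mem_sup_right hb1)
        · exact Submodule.mem_sup_right hb2
      · have m0 := mem_sup_span_range (A := U ⊓ U1 ⊓ U2) (x := ![a1, a2, b1, b2]) 0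
        have m1 := mem_sup_span_range (A := U ⊓ U1 ⊓ U2) (x := ![a1, a2, b1, b2]) 1
        have m2 := mem_sup_span_range (A := U ⊓ U1 ⊓ U2) (x := ![a1, a2, b1, b2]) 2
        have m3 := mem_sup_span_range (A := U ⊓ U1 ⊓ U2) (x := ![a1, a2, b1, b2]) 3
        have n0 := (Submodule.span_singleton_le_iff_mem _ _).2 m0
        have n1 := (Submodule.span_singleton_le_iff_mem _ _).2 m1
        have n2 := (Submodule.span_singleton_le_iff_mem _ _).2 m2
        have n3 := (Submodule.span_singleton_le_iff_mem _ _).2 m3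
        refine sup_le (sup_le ?_ ?_) ?_
        · conv_lhs => rw [hU]
          exact sup_le (sup_le le_sup_left n0) n1
        · conv_lhs => rw [hU1]
          exact sup_le (sup_le le_sup_left n0) n2
        · conv_lhs => rw [hU2]
          exact sup_le (sup_le le_sup_left n1) n3
    have h4 : finrank F ((U ⊔ U1) ⊔ U2 : Submodule F V) = k + 4 := by
      have e1 := h1.sup
      have e2 := h2.sup
      have h5 : U ⊔ U1 ⊔ U2 = (U ⊔ U1) ⊔ F ∙ b2 := by
        apply le_antisymm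
        · refine sup_le le_sup_left ?_
          conv_lhs => rw [hU2']
          exact sup_le (inf_le_left.trans (le_sup_left.trans le_sup_left)) le_sup_right
        · exact sup_le le_sup_left ((Submodule.span_singleton_le_iff_mem _ _).2 (Submodule.mem_sup_right hb2))
      have hb3 : b2 ∉ U ⊔ U1 := by
        intro h6
        apply hB
        symm
        refine Submodule.eq_of_le_of_finrank_le (sup_le le_sup_left ?_) (by rw [e1, e2])
        conv_lhs => rw [hU2']
        exact sup_le (inf_le_left.trans le_sup_left) ((Submodule.span_singleton_le_iff_mem _ _).2 h6)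
      have h6 : Disjoint (U ⊔ U1) (F ∙ b2) := by
        rw [Submodule.disjoint_span_singleton']
        · exact hb3
        · rintro rfl
          exact hb3 (Submodule.zero_mem _)
      have h7 := Submodule.finrank_sup_add_finrank_inf_eq (U ⊔ U1) (F ∙ b2)
      rw [h6.eq_bot, finrank_bot, finrank_span_singleton (by rintro rfl; exact hb3 (Submodule.zero_mem _)), e1] at h7
      rw [h5]
      omega
    rw [h3, h4, hC]
  · intro s
    rw [span_range_two, ← sup_assoc]
    fin_cases s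
    · simpa [c5, Fin.sum_univ_four] using hU
    · simpa [c5, Fin.sum_univ_four] using hU1
    · simpa [c5, Fin.sum_univ_four] using hU2

/-- pairs of neighbours with the same pattern are conjugate -/
theorem exists_sl_pair (hn : 5 ≤ finrank F V) {U U1 U2 U1' U2' : Submodule F V} (h0 : U ≠ ⊥)
    (h1 : Adj U U1) (h2 : Adj U U2) (h1' : Adj U U1') (h2' : Adj U U2')
    (hA : U ⊓ U1 = U ⊓ U2 ↔ U ⊓ U1' = U ⊓ U2') (hB : U ⊔ U1 = U ⊔ U2 ↔ U ⊔ U1' = U ⊔ U2')
    (hE : U1 = U2 ↔ U1' = U2') :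
    ∃ g : V ≃ₗ[F] V, LinearEquiv.det g = 1 ∧ U.map (g : V →ₗ[F] V) = U ∧ U1.map (g : V →ₗ[F] V) = U1' ∧
      U2.map (g : V →ₗ[F] V) = U2' := by
  have key : ∀ {m r a : ℕ} {c : Fin 3 → Fin r → Fin m → F}, m ≤ 4 → Nf c a ![U, U1, U2] →
      Nf c a ![U, U1', U2'] → ∃ g : V ≃ₗ[F] V, LinearEquiv.det g = 1 ∧ U.map (g : V →ₗ[F] V) = U ∧
        U1.map (g : V →ₗ[F] V) = U1' ∧ U2.map (g : V →ₗ[F] V) = U2' := by
    intro m r a c hm h h'
    obtain ⟨g, hg, hg'⟩ := Nf.exists_sl (by omega) h h'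
    exact ⟨g, hg, hg' 0, hg' 1, hg' 2⟩
  have hpos : 0 < finrank F U := by
    rw [Nat.pos_iff_ne_zero]
    exact fun h => h0 (Submodule.finrank_eq_zero.1 h)
  by_cases cA : U ⊓ U1 = U ⊓ U2
  · have cA' := hA.1 cA
    obtain ⟨k, hk⟩ : ∃ k, finrank F U = k + 1 := ⟨finrank F U - 1, by omega⟩
    by_cases cE : U1 = U2
    · have cE' := hE.1 cE
      subst cE cE'
      exact key (by norm_num) (nf1 hk h1) (nf1 hk h1')
    · have cE' : U1' ≠ U2' := fun h => cE (hE.2 h)
      by_cases cB : U ⊔ U1 = U ⊔ U2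
      · exact key (by norm_num) (nf2 hk h1 h2 cA cB cE) (nf2 hk h1' h2' cA' (hB.1 cB) cE')
      · exact key (by norm_num) (nf3 hk h1 h2 cA cB) (nf3 hk h1' h2' cA' fun h => cB (hB.2 h))
  · have cA' : U ⊓ U1' ≠ U ⊓ U2' := fun h => cA (hA.2 h)
    obtain ⟨k, hk⟩ : ∃ k, finrank F U = k + 2 := by
      refine ⟨finrank F U - 2, ?_⟩
      have h3 : finrank F U ≠ 1 := by
        intro h4
        apply cA
        have e1 := h1.2
        have e2 := h2.2
        rw [h4] at e1 e2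
        rw [Submodule.finrank_eq_zero.1 (show finrank F (U ⊓ U1 : Submodule F V) = 0 by omega),
          Submodule.finrank_eq_zero.1 (show finrank F (U ⊓ U2 : Submodule F V) = 0 by omega)]
      omega
    by_cases cB : U ⊔ U1 = U ⊔ U2
    · exact key (by norm_num) (nf4 hk h1 h2 cA cB) (nf4 hk h1' h2' cA' (hB.1 cB))
    · exact key (by norm_num) (nf5 hk h1 h2 cA cB) (nf5 hk h1' h2' cA' fun h => cB (hB.2 h))

end Cfsg.Agent.H548.BS
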