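import Cfsg.Agent.H548.BS.SLRed
import Cfsg.Agent.H548.BS.Alt
import Cfsg.Agent.H847.Bs.Defs2

/-!
# S5733: BS24 (reducible subgroups of `SL(V)`) and BS41 (alternating groups)
-/

set_option autoImplicit false

namespace Cfsg.Agent.H548.BS

open Module Cfsg.Agent.H851.Dg

/-- **BS41.** -/
theorem row_alt_rb : ∃ c : ℝ, 0 < c ∧ ∀ n : ℕ, 5 ≤ n → H847.Bs.RB c (alternatingGroup (Fin n)) := by
  obtain ⟨c, hc, h⟩ := row_alt
  refine ⟨c, hc, fun n hn K hK => ?_⟩
  obtain hK' | ⟨M, hM, hKM⟩ := eq_top_or_exists_le_coatom K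
  · exact absurd hK' hK
  · refine (h n hn M hM).trans ?_
    exact_mod_cast nd_anti hKM

section

variable {F V : Type*} [Field F] [AddCommGroup V] [Module F V]

/-- linear automorphisms act on the set of subspaces -/
@[reducible]
def subAct (T : Subgroup (V ≃ₗ[F] V)) : MulAction T (Submodule F V) where
  smul g Y := Y.map ((g : V ≃ₗ[F] V) : V →ₗ[F] V)
  one_smul Y := Submodule.map_id Y
  mul_smul g h Y := by
    show Y.map (((g : V ≃ₗ[F] V) : V →ₗ[F] V) ∘ₗ ((h : V ≃ₗ[F] V) : V →ₗ[F] V)) = _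
    rw [Submodule.map_comp]
    rfl

variable [FiniteDimensional F V]

theorem mem_slV {g : V ≃ₗ[F] V} : g ∈ H847.Bs.slV F V ↔ LinearEquiv.det g = 1 := by
  rw [← Units.val_inj, LinearEquiv.coe_det, Units.val_one]
  rfl

theorem map_eq_of_inv {x : V ≃ₗ[F] V} {Y : Submodule F V} (h : H847.Bs.Inv x Y) : Y.map (x : V →ₗ[F] V) = Y := by
  refine Submodule.eq_of_le_of_finrank_le ?_ ?_
  · rintro _ ⟨y, hy, rfl⟩
    exact h y hy
  · rw [LinearEquiv.finrank_map_eq x Y]

theorem exists_sl_subspace (h0 : 1 ≤ finrank F V) {Y Y' : Submodule F V} (h : finrank F Y = finrank F Y') :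
    ∃ g : V ≃ₗ[F] V, LinearEquiv.det g = 1 ∧ Y.map (g : V →ₗ[F] V) = Y' := by
  obtain ⟨g, h1, h2, -⟩ := exists_sl_mod (m := 0) (by omega) h (x := Fin.elim0) (x' := Fin.elim0)
    (linearIndependent_empty_type) (linearIndependent_empty_type)
  exact ⟨g, h1, h2⟩

theorem Adj.map {U U' : Submodule F V} (h : Adj U U') (g : V ≃ₗ[F] V) :
    Adj (U.map (g : V →ₗ[F] V)) (U'.map (g : V →ₗ[F] V)) := by
  refine ⟨?_, ?_⟩
  · rw [LinearEquiv.finrank_map_eq g U, LinearEquiv.finrank_map_eq g U', h.1]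
  · rw [← Submodule.map_inf (g : V →ₗ[F] V) g.injective, LinearEquiv.finrank_map_eq g (U ⊓ U'),
      LinearEquiv.finrank_map_eq g U, h.2]

theorem Adj.exists_sl (hn : 5 ≤ finrank F V) {U U' : Submodule F V} (h : Adj U U') :
    ∃ g : V ≃ₗ[F] V, LinearEquiv.det g = 1 ∧ U.map (g : V →ₗ[F] V) = U' := by
  exact exists_sl_subspace (by omega) h.1.symm

theorem exists_adj {U : Submodule F V} (h0 : U ≠ ⊥) (h1 : U ≠ ⊤) : ∃ U', Adj U U' := by
  -- a hyperplane of `U`
  obtain ⟨u, hu, hu0⟩ := Submodule.exists_mem_ne_zero_of_ne_bot h0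
  obtain ⟨b, hb⟩ : ∃ b, b ∉ U := by
    by_contra hcon
    push Not at hcon
    exact h1 (Submodule.eq_top_iff'.2 hcon)
  obtain ⟨φ, hφ⟩ : ∃ φ : Module.Dual F V, φ u ≠ 0 := by
    by_contra hcon
    push Not at hcon
    exact hu0 ((Module.forall_dual_apply_eq_zero_iff F u).1 hcon)
  set A : Submodule F V := U ⊓ LinearMap.ker φ with hA
  have hAU : A ≤ U := inf_le_left
  have hu' : u ∉ A := fun h => hφ (LinearMap.mem_ker.1 h.2)
  have hsup : A ⊔ F ∙ u = U := by
    apply le_antisymm (sup_le hAU ((Submodule.span_singleton_le_iff_mem _ _).2 hu))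
    intro x hx
    have h2 : x - (φ x / φ u) • u ∈ A := by
      refine ⟨U.sub_mem hx (U.smul_mem _ hu), ?_⟩
      show x - (φ x / φ u) • u ∈ LinearMap.ker φ
      rw [LinearMap.mem_ker, map_sub, map_smul, smul_eq_mul, div_mul_cancel₀ _ hφ, sub_self]
    have h3 : x = (x - (φ x / φ u) • u) + (φ x / φ u) • u := by abel
    rw [h3]
    exact Submodule.add_mem_sup h2 (Submodule.smul_mem _ _ (Submodule.mem_span_singleton_self u))
  have hdis : Disjoint A (F ∙ u) := by
    rw [Submodule.disjoint_span_singleton' hu0]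
    exact hu'
  have hd := Submodule.finrank_sup_add_finrank_inf_eq A (F ∙ u)
  rw [hdis.eq_bot, finrank_bot, finrank_span_singleton hu0, hsup] at hd
  have hb0 : b ≠ 0 := by rintro rfl; exact hb U.zero_mem
  have hbA : b ∉ A := fun h => hb (hAU h)
  have hdis' : Disjoint A (F ∙ b) := by
    rw [Submodule.disjoint_span_singleton' hb0]
    exact hbA
  have hd' := Submodule.finrank_sup_add_finrank_inf_eq A (F ∙ b)
  rw [hdis'.eq_bot, finrank_bot, finrank_span_singleton hb0] at hd'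
  refine ⟨A ⊔ F ∙ b, by omega, ?_⟩
  have h4 : U ⊓ (A ⊔ F ∙ b) = A := by
    apply le_antisymm
    · rintro x ⟨hx, hx'⟩
      obtain ⟨y, hy, z, hz, rfl⟩ := Submodule.mem_sup.1 hx'
      obtain ⟨c, rfl⟩ := Submodule.mem_span_singleton.1 hz
      have hcb : c • b ∈ U := by
        have := U.sub_mem hx (hAU hy)
        rwa [add_sub_cancel_left] at this
      by_cases hc : c = 0
      · rw [hc, zero_smul, add_zero]
        exact hy
      · exact absurd ((U.smul_mem_iff hc).1 hcb) hb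
    · exact le_inf hAU le_sup_left
  rw [h4]
  omega

open Classical in
/-- stabilisers of subspaces in `SL(V)` -/
theorem sl_stab [Finite F] (hn : 5 ≤ finrank F V) {U : Submodule F V} (h0 : U ≠ ⊥) (h1 : U ≠ ⊤) :
    letI := subAct (H847.Bs.slV F V)
    Nat.card (H847.Bs.slV F V) ≤ 16 * nd (MulAction.stabilizer (H847.Bs.slV F V) U) := by
  letI := subAct (H847.Bs.slV F V)
  have : Finite V := Module.finite_of_finite F
  have : Finite (V ≃ₗ[F] V) := Finite.of_injective (fun g : V ≃ₗ[F] V => (g : V → V)) DFunLike.coe_injective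
  obtain ⟨U1, hU1⟩ := exists_adj h0 h1
  have hP : Fintype.card (Bool × Bool × Bool) = 8 := rfl
  refine local_rank (T := H847.Bs.slV F V) (Ω := Submodule F V) U {U' | Adj U U'} ⟨U1, hU1⟩ ?_ ?_ ?_ 8
    (fun a b => Fintype.equivFinOfCardEq hP
      (decide (U ⊓ a = U ⊓ b), decide (U ⊔ a = U ⊔ b), decide (a = b))) ?_
  · intro h
    have := h.2
    rw [inf_idem] at this
    omega
  · intro U' h
    obtain ⟨g, hg, hgU⟩ := Adj.exists_sl hn h
    exact ⟨⟨g, mem_slV.2 hg⟩, hgU⟩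
  · intro g hg U' h
    have h2 := Adj.map h (g : V ≃ₗ[F] V)
    have h3 : U.map ((g : V ≃ₗ[F] V) : V →ₗ[F] V) = U := hg
    rw [h3] at h2
    exact h2
  · intro a ha b hb a' ha' b' hb' hpat
    have hpat' := (Fintype.equivFinOfCardEq hP).injective hpat
    rw [Prod.mk.injEq, Prod.mk.injEq, decide_eq_decide, decide_eq_decide, decide_eq_decide] at hpat'
    obtain ⟨g, hg, hgU, hga, hgb⟩ := exists_sl_pair hn h0 ha hb ha' hb' hpat'.1 hpat'.2.1 hpat'.2.2
    exact ⟨⟨g, mem_slV.2 hg⟩, hgU, hga, hgb⟩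

/-- **BS24.** The elements of `SL(V)` without an invariant subspace of dimension `k`. -/
theorem sl_reducible [Finite F] (hn : 5 ≤ finrank F V) {k : ℕ} (hk : 1 ≤ k) (hk' : k < finrank F V) :
    (1 / 16 : ℝ) * Nat.card (H847.Bs.slV F V) ≤
      Nat.card {x // x ∈ H847.Bs.slV F V ∧ ∀ Y : Submodule F V, H847.Bs.Inv x Y → finrank F Y ≠ k} := by
  letI := subAct (H847.Bs.slV F V)
  have : Finite V := Module.finite_of_finite F
  have : Finite (V ≃ₗ[F] V) := Finite.of_injective (fun g : V ≃ₗ[F] V => (g : V → V)) DFunLike.coe_injective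
  -- a subspace of dimension `k`
  obtain ⟨U, hU⟩ : ∃ U : Submodule F V, finrank F U = k := by
    let b := Module.finBasis F V
    have hli : LinearIndependent F (fun i : Fin k => b (Fin.castLE hk'.le i)) :=
      b.linearIndependent.comp _ (Fin.castLE_injective _)
    exact ⟨Submodule.span F (Set.range fun i : Fin k => b (Fin.castLE hk'.le i)), by
      rw [finrank_span_eq_card hli, Fintype.card_fin]⟩
  have h0 : U ≠ ⊥ := by
    rintro rfl
    rw [finrank_bot] at hU
    omega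
  have h1 : U ≠ ⊤ := by
    rintro rfl
    rw [finrank_top] at hU
    omega
  have h2 := sl_stab hn h0 h1
  have h3 : nd (MulAction.stabilizer (H847.Bs.slV F V) U) ≤
      Nat.card {x // x ∈ H847.Bs.slV F V ∧ ∀ Y : Submodule F V, H847.Bs.Inv x Y → finrank F Y ≠ k} := by
    refine Nat.card_le_card_of_injective
      (fun x : {x : H847.Bs.slV F V // ∀ g : H847.Bs.slV F V, g * x * g⁻¹ ∉ MulAction.stabilizer (H847.Bs.slV F V) U} =>
        (⟨x.1.1, x.1.2, fun Y hY hYk => ?_⟩ : {x // x ∈ H847.Bs.slV F V ∧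
          ∀ Y : Submodule F V, H847.Bs.Inv x Y → finrank F Y ≠ k})) ?_
    · obtain ⟨g, hg, hgY⟩ := exists_sl_subspace (by omega) (hYk.trans hU.symm)
      refine x.2 ⟨g, mem_slV.2 hg⟩ ?_
      rw [MulAction.mem_stabilizer_iff, mul_smul, mul_smul]
      have h4 : (⟨g, mem_slV.2 hg⟩ : H847.Bs.slV F V) • Y = U := hgY
      have h5 : (⟨g, mem_slV.2 hg⟩ : H847.Bs.slV F V)⁻¹ • U = Y := by rw [← h4, inv_smul_smul]
      have h6 : x.1 • Y = Y := map_eq_of_inv hY
      rw [h5, h6, h4]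
    · intro a b hab
      exact Subtype.ext (Subtype.ext (Subtype.mk.inj hab))
  have h4 : (Nat.card (H847.Bs.slV F V) : ℝ) ≤ 16 * Nat.card {x // x ∈ H847.Bs.slV F V ∧
      ∀ Y : Submodule F V, H847.Bs.Inv x Y → finrank F Y ≠ k} := by
    exact_mod_cast h2.trans (Nat.mul_le_mul_left 16 h3)
  linarith

end

/-- **BS24**, the form of the task -/
theorem bs24 : ∃ c : ℝ, 0 < c ∧ ∃ n₀ : ℕ, ∀ (F V : Type) [Field F] [Finite F] [AddCommGroup V] [Module F V]
    [FiniteDimensional F V], n₀ ≤ finrank F V → ∀ k, 1 ≤ k → k < finrank F V →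
    c * Nat.card (H847.Bs.slV F V) ≤
      Nat.card {x // x ∈ H847.Bs.slV F V ∧ ∀ Y : Submodule F V, H847.Bs.Inv x Y → finrank F Y ≠ k} :=
  ⟨1 / 16, by norm_num, 5, fun _ _ _ _ _ _ _ hn _ hk hk' => sl_reducible hn hk hk'⟩

end Cfsg.Agent.H548.BS
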