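import Cfsg.Agent.H548.BS.Fin
import Cfsg.Agent.H193.Bs.TrickSL2
import Cfsg.Agent.H41.Bs.CountGLFinal
import Cfsg.Agent.H358.Bs.BaseSL
import Cfsg.Agent.TwoFusion.SLTwoFacts

/-!
# S5733: the linear row from the trick with base `SL₂`
-/

set_option autoImplicit false

namespace Cfsg.Agent.H548.BS

open Module Cfsg Cfsg.Agent.H851.Dg Cfsg.Agent.H847.Bs Cfsg.Agent.OrdDiv Cfsg.Agent.H436

/-- the base -/
theorem base_two (h : BdRow) : ∃ ε : ℝ, 0 < ε ∧ ∀ (F : Type) [Field F] [Finite F],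
    RB ε (Matrix.SpecialLinearGroup (Fin 2) F) := by
  obtain ⟨c, hc, h⟩ := h 2
  refine ⟨min c (1 / (3 ^ 4 : ℕ)), lt_min hc (by positivity), ?_⟩
  intro F _ _
  have := Fintype.ofFinite F
  by_cases hF : 3 < Fintype.card F
  · refine rb_mono (min_le_left _ _) ?_
    refine H358.Bs.RB.of_center (TwoFusion.SLTwoFacts.commutator_eq_top hF) ?_
    have : Finite (Matrix.ProjectiveSpecialLinearGroup (Fin 2) F) :=
      Finite.of_surjective _ (QuotientGroup.mk'_surjective (Subgroup.center (Matrix.SpecialLinearGroup (Fin 2) F)))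
    refine h (.psl 2 (Fintype.card F)) _ ?_ ⟨trivial, le_refl 2⟩
    exact .mk' ⟨F, inferInstance, inferInstance, rfl, ⟨MulEquiv.refl _⟩⟩
      ⟨le_rfl, fun _ => hF, Fintype.isPrimePow_card_of_field⟩ (psl_eq le_rfl)
  · refine rb_mono (min_le_right _ _) ?_
    refine rb_small ?_ (by norm_num)
    have h2 : Nat.card (Matrix.SpecialLinearGroup (Fin 2) F) ≤ Nat.card (Matrix (Fin 2) (Fin 2) F) :=
      Nat.card_le_card_of_injective (fun g : Matrix.SpecialLinearGroup (Fin 2) F => (g : Matrix (Fin 2) (Fin 2) F))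
        Subtype.val_injective
    have h4 : Nat.card (Matrix (Fin 2) (Fin 2) F) = Fintype.card F ^ 4 := by
      rw [Module.natCard_eq_pow_finrank (K := F), Module.finrank_matrix, Nat.card_eq_fintype_card]
      simp
    rw [h4] at h2
    exact h2.trans (Nat.pow_le_pow_left (by omega) 4)

/-- the linear row -/
theorem row_sl_two (h0 : ∃ ε : ℝ, 0 < ε ∧ ∀ (F : Type) [Field F] [Finite F],
    RB ε (Matrix.SpecialLinearGroup (Fin 2) F)) : RowSL := by
  obtain ⟨c1, hc1, n1, h1⟩ := H193.Bs.trick_sl_count H41.Bs.count_gl h0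
  obtain ⟨c3, hc3, n3, h3⟩ := H845.Bs.bs34
  refine ⟨min (min c1 c3) (1 / 16), lt_min (lt_min hc1 hc3) (by norm_num), max (max n1 n3) 5, ?_⟩
  intro F V _ _ _ _ _ hn H hH hne
  have hn1 : n1 ≤ finrank F V := (le_max_left _ _).trans ((le_max_left _ _).trans hn)
  have hn3 : n3 ≤ finrank F V := (le_max_right _ _).trans ((le_max_left _ _).trans hn)
  have hn5 : 5 ≤ finrank F V := (le_max_right _ _).trans hn
  have : Finite V := Module.finite_of_finite F
  have hc : (0 : ℝ) ≤ (Nat.card (slV F V) : ℝ) := Nat.cast_nonneg _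
  by_contra hcon
  push Not at hcon
  have hlt1 : (ndV (slV F V) H : ℝ) < c1 * Nat.card (slV F V) :=
    hcon.trans_le (mul_le_mul_of_nonneg_right ((min_le_left _ _).trans (min_le_left _ _)) hc)
  have hlt3 : (ndV (slV F V) H : ℝ) < c3 * Nat.card (slV F V) :=
    hcon.trans_le (mul_le_mul_of_nonneg_right ((min_le_left _ _).trans (min_le_right _ _)) hc)
  have hlt2 : (ndV (slV F V) H : ℝ) < 1 / 16 * Nat.card (slV F V) :=
    hcon.trans_le (mul_le_mul_of_nonneg_right (min_le_right _ _) hc)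
  obtain ⟨W, U, hWU, hW, hH1⟩ := h1 F V hn1 H hH hlt1
  by_cases hirr : IrrG H
  · rcases H806.Bs.gen_sl hirr hWU hW hH1 with h | h | h
    · exact hne (le_antisymm hH h)
    · exact absurd ((h3 F V hn3 H hH).1 h) (not_le.2 hlt3)
    · exact absurd ((h3 F V hn3 H hH).2 h) (not_le.2 hlt3)
  · unfold IrrG at hirr
    push Not at hirr
    obtain ⟨Y, hY, hY0, hY1⟩ := hirr
    have hk : 1 ≤ finrank F Y := by
      rw [Nat.one_le_iff_ne_zero]
      exact fun h => hY0 (Submodule.finrank_eq_zero.1 h)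
    have hk' : finrank F Y < finrank F V := Submodule.finrank_lt hY1
    have h4 := sl_reducible hn5 hk hk'
    have h5 : Nat.card {x // x ∈ slV F V ∧ ∀ Z : Submodule F V, Inv x Z → finrank F Z ≠ finrank F Y} ≤
        ndV (slV F V) H := by
      refine ndV_ge (P := fun x => x ∈ slV F V ∧ ∀ Z : Submodule F V, Inv x Z → finrank F Z ≠ finrank F Y) ?_
      rintro x ⟨hx, hx2⟩
      refine ⟨hx, fun g hg hgx => ?_⟩
      exact hx2 _ (inv_conj (hY _ hgx)) (LinearEquiv.finrank_map_eq (g⁻¹ : V ≃ₗ[F] V) Y)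
    have h6 : (Nat.card {x // x ∈ slV F V ∧ ∀ Z : Submodule F V, Inv x Z → finrank F Z ≠ finrank F Y} : ℝ) ≤
        ndV (slV F V) H := by exact_mod_cast h5
    exact absurd (h4.trans h6) (not_le.2 hlt2)

end Cfsg.Agent.H548.BS
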